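import Cfsg.Agent.Lib.Wielandt.Formula
import Cfsg.Agent.Lib.FpfSymThree.Weights
import Cfsg.Agent.Lib.FpfSymThree.Subdirect

/-!
# Groups of order `pq` and their weights

Elementary facts for non-abelian groups of order `pq`, fixed-point-free actions of Frobenius
groups, and stabilisers of weights.
-/

set_option autoImplicit false

namespace Cfsg.Agent.Lib.FpfPq

open Cfsg.Agent.Lib
open scoped commutatorElement

/-- The hypotheses on the acting group. -/
structure IsPqGroup (A : Type*) [Group A] (Q : Subgroup A) : Prop where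
  normal : Q.Normal
  ne_bot : Q ≠ ⊥
  ne_top : Q ≠ ⊤
  prime_card : ∀ H : Subgroup A, H ≠ ⊥ → H ≠ ⊤ → (Nat.card H).Prime
  not_comm : ¬ ∀ a b : A, a * b = b * a

namespace IsPqGroup

variable {A : Type*} [Group A] [Finite A] {Q : Subgroup A} (hA : IsPqGroup A Q)
include hA

theorem sup_eq_top {H H' : Subgroup A} (h1 : H ≠ ⊥) (h1' : H' ≠ ⊥)
    (hne : H ≠ H') : H ⊔ H' = ⊤ := by
  by_contra h
  have hs0 : H ⊔ H' ≠ ⊥ := fun h0 => h1 (eq_bot_iff.mpr (h0 ▸ le_sup_left))
  have hp := hA.prime_card _ hs0 h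
  have key : ∀ L : Subgroup A, L ≠ ⊥ → L ≤ H ⊔ H' → L = H ⊔ H' := fun L hL hle => by
    rcases hp.eq_one_or_self_of_dvd _ (Subgroup.card_dvd_of_le hle) with h2 | h2
    · exact absurd (Subgroup.eq_bot_of_card_eq L h2) hL
    · exact Subgroup.eq_of_le_of_card_ge hle h2.ge
  exact hne ((key H h1 le_sup_left).trans (key H' h1' le_sup_right).symm)

/-- An element of `Q` normalising another proper subgroup is trivial. -/
theorem eq_one_of_normalizes {H : Subgroup A} (h1 : H ≠ ⊥) (h2 : H ≠ ⊤) (hne : H ≠ Q) {b : A}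
    (hb : b ∈ Q) (hnorm : ∀ a ∈ H, b * a * b⁻¹ ∈ H) : b = 1 := by
  classical
  by_contra hb1
  let N : Subgroup A := Subgroup.normalizer (H : Set A)
  have hbN : b ∈ N := by
    have h3 : H.map (MulAut.conj b).toMonoidHom = H := by
      refine Subgroup.eq_of_le_of_card_ge ?_ (Subgroup.card_map_of_injective (MulAut.conj b).injective).ge
      rintro _ ⟨a, ha, rfl⟩
      exact hnorm a ha
    refine Subgroup.mem_normalizer_iff.mpr fun a => ⟨hnorm a, fun ha => ?_⟩
    rw [← h3] at ha
    obtain ⟨a', ha', he⟩ := ha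
    have : a' = a := (MulAut.conj b).injective he
    exact this ▸ ha'
  have hQN : Q ≤ N := by
    have hQp := hA.prime_card Q hA.ne_bot hA.ne_top
    have hz : Subgroup.zpowers b = Q := by
      refine Subgroup.eq_of_le_of_card_ge (Subgroup.zpowers_le.mpr hb) ?_
      rcases hQp.eq_one_or_self_of_dvd _ (Subgroup.card_dvd_of_le (Subgroup.zpowers_le.mpr hb)) with
        h3 | h3
      · exact absurd ((Subgroup.zpowers_eq_bot).mp (Subgroup.eq_bot_of_card_eq _ h3)) hb1
      · exact h3.ge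
    exact hz ▸ Subgroup.zpowers_le.mpr hbN
  have hNtop : N = ⊤ := eq_top_iff.mpr
    ((hA.sup_eq_top h1 hA.ne_bot hne).ge.trans (sup_le Subgroup.le_normalizer hQN))
  haveI : H.Normal := Subgroup.normalizer_eq_top_iff.mp hNtop
  haveI := hA.normal
  have hinf : H ⊓ Q = ⊥ := by
    have hp := hA.prime_card H h1 h2
    rcases hp.eq_one_or_self_of_dvd _ (Subgroup.card_dvd_of_le (inf_le_left : H ⊓ Q ≤ H)) with
      h3 | h3
    · exact Subgroup.eq_bot_of_card_eq _ h3
    · exfalso
      have hle : H ≤ Q := inf_eq_left.mp (Subgroup.eq_of_le_of_card_ge inf_le_left h3.ge)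
      have hp' := hA.prime_card Q hA.ne_bot hA.ne_top
      rcases hp'.eq_one_or_self_of_dvd _ (Subgroup.card_dvd_of_le hle) with h4 | h4
      · exact h1 (Subgroup.eq_bot_of_card_eq _ h4)
      · exact hne (Subgroup.eq_of_le_of_card_ge hle h4.ge)
  apply hA.not_comm
  have hcyc : ∀ L : Subgroup A, (Nat.card L).Prime → ∀ u ∈ L, ∀ w ∈ L, u * w = w * u := by
    intro L hL u hu w hw
    haveI := Fact.mk hL
    haveI : IsCyclic L := isCyclic_of_prime_card rfl
    letI : CommGroup L := IsCyclic.commGroup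
    exact congrArg Subtype.val (mul_comm (⟨u, hu⟩ : L) ⟨w, hw⟩)
  have hcen : H ⊔ Q ≤ Subgroup.center A := by
    have key : ∀ L L' : Subgroup A, (∀ u ∈ L, ∀ w ∈ L, u * w = w * u) →
        (∀ u ∈ L, ∀ w ∈ L', u * w = w * u) → L ⊔ L' = ⊤ → L ≤ Subgroup.center A := by
      intro L L' hLL hLL' htop u hu
      rw [Subgroup.mem_center_iff]
      intro a
      have hle : L ⊔ L' ≤ Subgroup.centralizer {u} := sup_le
        (fun w hw => Subgroup.mem_centralizer_singleton_iff.mpr (hLL w hw u hu))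
        (fun w hw => Subgroup.mem_centralizer_singleton_iff.mpr (hLL' u hu w hw).symm)
      exact Subgroup.mem_centralizer_singleton_iff.mp (hle (htop ▸ Subgroup.mem_top a))
    have hHQ : ∀ u ∈ H, ∀ w ∈ Q, u * w = w * u := fun u hu w hw => by
      rw [← commutatorElement_eq_one_iff_mul_comm, ← Subgroup.mem_bot, ← hinf]
      exact Subgroup.commutator_le_inf H Q (Subgroup.commutator_mem_commutator hu hw)
    have htop := hA.sup_eq_top h1 hA.ne_bot hne
    refine sup_le (key H Q (hcyc H (hA.prime_card H h1 h2)) hHQ htop)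
      (key Q H (hcyc Q (hA.prime_card Q hA.ne_bot hA.ne_top))
        (fun u hu w hw => (hHQ w hw u hu).symm) (by rw [sup_comm]; exact htop))
  intro a b'
  exact Subgroup.mem_center_iff.mp (hcen (hA.sup_eq_top h1 hA.ne_bot hne ▸ Subgroup.mem_top b')) a

/-- A proper nontrivial subgroup is generated by an element of prime order. -/
theorem exists_generator {H : Subgroup A} (h1 : H ≠ ⊥) (h2 : H ≠ ⊤) :
    ∃ (h : A) (ℓ : ℕ), ℓ.Prime ∧ orderOf h = ℓ ∧ ℓ ∣ Nat.card A ∧ Subgroup.zpowers h = H := by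
  have hp := hA.prime_card H h1 h2
  haveI := Fact.mk hp
  haveI : IsCyclic H := isCyclic_of_prime_card rfl
  obtain ⟨⟨h, hh⟩, hgen⟩ := IsCyclic.exists_generator (α := H)
  have hz : Subgroup.zpowers h = H := le_antisymm (Subgroup.zpowers_le.mpr hh) fun a ha => by
    obtain ⟨i, hi⟩ := Subgroup.mem_zpowers_iff.mp (hgen ⟨a, ha⟩)
    exact Subgroup.mem_zpowers_iff.mpr ⟨i, by simpa using congrArg Subtype.val hi⟩
  exact ⟨h, Nat.card H, hp, by rw [← Nat.card_zpowers, hz], Subgroup.card_subgroup_dvd_card H, hz⟩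

end IsPqGroup

/-- The elements acting trivially modulo `M`. -/
def modStab {A S : Type*} [Group A] [Group S] (ψ : A →* MulAut S) (M : Subgroup S) :
    Subgroup A where
  carrier := {a | ∀ x, x⁻¹ * ψ a x ∈ M}
  one_mem' := fun x => by rw [map_one, MulAut.one_apply, inv_mul_cancel]; exact M.one_mem
  mul_mem' := fun {a b} ha hb x => by
    rw [map_mul, MulAut.mul_apply,
      show x⁻¹ * ψ a (ψ b x) = (x⁻¹ * ψ b x) * ((ψ b x)⁻¹ * ψ a (ψ b x)) by group]
    exact M.mul_mem (hb x) (ha (ψ b x))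
  inv_mem' := fun {a} ha x => by
    have h := M.inv_mem (ha (ψ a⁻¹ x))
    rw [map_inv, MulAut.apply_inv_self, mul_inv_rev, inv_inv] at h
    rw [map_inv]
    exact h

/-- The commutator `[S, h]` for an abelian `S`. -/
def commRange {A S : Type*} [Group A] [CommGroup S] (ψ : A →* MulAut S) (h : A) : Subgroup S :=
  ((ψ h).toMonoidHom / MonoidHom.id S).range

theorem mem_commRange {A S : Type*} [Group A] [CommGroup S] (ψ : A →* MulAut S) (h : A) (x : S) :
    x⁻¹ * ψ h x ∈ commRange ψ h := ⟨x, by simp [div_eq_mul_inv, mul_comm]⟩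

theorem commRange_invariant {A S : Type*} [Group A] [CommGroup S] (ψ : A →* MulAut S) (h : A)
    {y : S} (hy : y ∈ commRange ψ h) : ψ h y ∈ commRange ψ h := by
  obtain ⟨x, rfl⟩ := hy
  exact ⟨ψ h x, by simp [div_eq_mul_inv, map_mul, map_inv]⟩

/-- A Frobenius group whose complement fixes nothing has a trivially acting kernel. -/
theorem eq_one_of_no_fixed {V : Type*} [Group V] [Finite V] (hsolv : Group.IsSolvable V)
    {T : Type*} [CommGroup T] [Finite T] {ℓ : ℕ} (hℓ : ℓ.Prime) (θ : T →* MulAut V) (h : MulAut V)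
    (hh : h ^ ℓ = 1) (η : MulAut T) (hη : η ^ ℓ = 1) (hfpf : ∀ t, η t = t → t = 1)
    (hcompat : ∀ t, h * θ t = θ (η t) * h) (hVfix : ∀ x, h x = x → x = 1)
    (hTV : (Nat.card T).Coprime (Nat.card V)) (hℓV : ℓ.Coprime (Nat.card V)) (t : T) : θ t = 1 := by
  classical
  haveI := Fact.mk hℓ
  by_cases hT : ∀ u : T, u = 1
  · rw [hT t, map_one]
  push Not at hT
  have hη1 : η ≠ 1 := fun h1 => hT.elim fun u hu => hu (hfpf u (by rw [h1]; rfl))
  set π : MulAut T × MulAut V := (η, h) with hπ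
  set Eg := Subgroup.zpowers π
  have hπℓ : π ^ ℓ = 1 := by rw [hπ, Prod.pow_mk, hη, hh]; rfl
  have hπ1 : π ≠ 1 := fun h1 => hη1 (congrArg Prod.fst h1)
  have hE : Nat.card Eg = ℓ := by rw [Nat.card_zpowers, orderOf_eq_prime hπℓ hπ1]
  haveI : Finite Eg := Nat.finite_of_card_ne_zero (by rw [hE]; exact hℓ.ne_zero)
  let ψ : Eg →* MulAut T := (MonoidHom.fst _ _).comp Eg.subtype
  let χ : Eg →* MulAut V := (MonoidHom.snd _ _).comp Eg.subtype
  have hcomp' : ∀ e : Eg, ∀ u, χ e * θ u = θ (ψ e u) * χ e := by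
    intro e
    let S : Subgroup (MulAut T × MulAut V) :=
      { carrier := {a | ∀ u, a.2 * θ u = θ (a.1 u) * a.2}
        one_mem' := fun u => by simp
        mul_mem' := fun {a b} ha hb u => by
          show a.2 * b.2 * θ u = θ (a.1 (b.1 u)) * (a.2 * b.2)
          rw [mul_assoc, hb, ← mul_assoc, ha, mul_assoc]
        inv_mem' := fun {a} ha u => by
          show a.2⁻¹ * θ u = θ (a.1⁻¹ u) * a.2⁻¹
          have h2 := ha (a.1⁻¹ u)
          rw [MulAut.apply_inv_self] at h2
          rw [eq_mul_inv_iff_mul_eq, mul_assoc, ← h2, inv_mul_cancel_left] }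
    exact (Subgroup.zpowers_le (H := S)).mpr (show π ∈ S from hcompat) e.2
  let φ : T ⋊[ψ] Eg →* MulAut V := SemidirectProduct.lift θ χ fun e => MonoidHom.ext fun u => by
    show θ (ψ e u) = χ e * θ u * (χ e)⁻¹
    rw [hcomp', mul_inv_cancel_right]
  haveI : Finite (T ⋊[ψ] Eg) := Finite.of_equiv _ SemidirectProduct.equivProd.symm
  set U : Subgroup (T ⋊[ψ] Eg) := (SemidirectProduct.inl : T →* T ⋊[ψ] Eg).range
  set E : Subgroup (T ⋊[ψ] Eg) := (SemidirectProduct.inr : Eg →* T ⋊[ψ] Eg).range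
  haveI : U.Normal := by
    show (SemidirectProduct.inl : T →* T ⋊[ψ] Eg).range.Normal
    rw [SemidirectProduct.range_inl_eq_ker_rightHom]
    exact MonoidHom.normal_ker _
  have hUE : U ⊓ E = ⊥ := by
    rw [eq_bot_iff]
    rintro _ ⟨⟨u, rfl⟩, e, he⟩
    have h2 := congrArg SemidirectProduct.left he
    simp only [SemidirectProduct.left_inr, SemidirectProduct.left_inl] at h2
    rw [Subgroup.mem_bot, ← h2, map_one]
  have htop : U ⊔ E = ⊤ := eq_top_iff.mpr fun a _ => by
    rw [← SemidirectProduct.inl_left_mul_inr_right a]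
    exact Subgroup.mul_mem_sup ⟨_, rfl⟩ ⟨_, rfl⟩
  have hfr : ∀ e ∈ E, e ≠ 1 → ∀ u ∈ U, e * u = u * e → u = 1 := by
    rintro _ ⟨e, rfl⟩ he1 _ ⟨u, rfl⟩ hc
    have h2 := congrArg SemidirectProduct.left hc
    simp only [SemidirectProduct.mul_left, SemidirectProduct.left_inr, SemidirectProduct.left_inl,
      SemidirectProduct.right_inr, SemidirectProduct.right_inl, map_one, one_mul, mul_one] at h2
    have hgen : (⟨π, Subgroup.mem_zpowers π⟩ : Eg) ∈ Subgroup.zpowers e :=
      mem_zpowers_of_prime_card (p := ℓ) hE (fun h3 => he1 (by rw [h3, map_one]))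
    have h3 : Subgroup.zpowers e ≤ (MulAction.stabilizer (MulAut T) u).comap ψ :=
      Subgroup.zpowers_le.mpr h2
    rw [hfpf u (h3 hgen), map_one]
  have hW := Wielandt.card_fixedSub_frobenius hUE htop hfr hsolv
    (by rw [SemidirectProduct.card, hE]; exact Nat.Coprime.mul_left hTV hℓV) φ
  have hEb : Wielandt.fixedSub φ E = ⊥ := by
    rw [eq_bot_iff]
    intro x hx
    have h2 := hx _ ⟨⟨π, Subgroup.mem_zpowers π⟩, rfl⟩
    rw [SemidirectProduct.lift_inr] at h2
    exact Subgroup.mem_bot.mpr (hVfix x h2)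
  have hGb : Wielandt.fixedSub φ ⊤ = ⊥ := by
    rw [eq_bot_iff, ← hEb]
    exact fun x hx g _ => hx g (Subgroup.mem_top g)
  rw [hEb, hGb, Subgroup.card_bot, one_pow, one_mul, one_mul] at hW
  have hU : Wielandt.fixedSub φ U = ⊤ := Subgroup.eq_top_of_card_eq _ hW.symm
  refine MulEquiv.ext fun x => ?_
  have h2 := (hU ▸ Subgroup.mem_top x : x ∈ Wielandt.fixedSub φ U) _ ⟨t, rfl⟩
  rwa [SemidirectProduct.lift_inl] at h2

section Weights

variable {A T : Type*} [Group A] [CommGroup T] {k W : Type*} [Field k] [AddCommGroup W]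
  [Module k W]

/-- The stabiliser of a weight. -/
def weightStab (α : A →* MulAut T) (χ : T → k) : Subgroup A where
  carrier := {a | FpfSymThree.pullback (α a) χ = χ}
  one_mem' := by
    show FpfSymThree.pullback (α 1) χ = χ
    rw [map_one]; rfl
  mul_mem' := fun {a b} (ha : _ = χ) (hb : _ = χ) => by
    show FpfSymThree.pullback (α (a * b)) χ = χ
    rw [map_mul, FpfSymThree.pullback_mul, hb, ha]
  inv_mem' := fun {a} (ha : _ = χ) => by
    show FpfSymThree.pullback (α a⁻¹) χ = χ
    conv_lhs => rw [← ha]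
    rw [← FpfSymThree.pullback_mul, ← map_mul, inv_mul_cancel, map_one]
    rfl

omit [Field k] in
theorem mem_weightStab {α : A →* MulAut T} {χ : T → k} {a : A} :
    a ∈ weightStab α χ ↔ FpfSymThree.pullback (α a) χ = χ := Iff.rfl

omit [Field k] in
theorem apply_eq_of_mem_weightStab {α : A →* MulAut T} {χ : T → k} {a : A}
    (h : a ∈ weightStab α χ) (t : T) : χ (α a t) = χ t := by
  have h2 := congrFun (mem_weightStab.mp h) (α a t)
  rw [FpfSymThree.pullback, MulEquiv.symm_apply_apply] at h2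
  exact h2.symm

theorem weight_mul (ρ : T →* Module.End k W) {χ : T → k}
    (hχ : FpfSymThree.jointEigen (fun t => ρ t) χ ≠ ⊥) :
    χ 1 = 1 ∧ ∀ a b, χ (a * b) = χ a * χ b := by
  obtain ⟨v, hv, hv0⟩ := Submodule.exists_mem_ne_zero_of_ne_bot hχ
  refine ⟨?_, fun a b => ?_⟩
  · have h : ρ 1 v = χ 1 • v := hv 1
    rw [map_one, Module.End.one_apply] at h
    exact (smul_left_injective k hv0 ((one_smul k v).trans h)).symm
  · have h : ρ (a * b) v = χ (a * b) • v := hv (a * b)
    rw [map_mul, Module.End.mul_apply, hv b, map_smul, hv a, smul_smul] at h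
    rw [mul_comm (χ a)]
    exact (smul_left_injective k hv0 h).symm

variable [Finite A] [Finite T]

/-- A weight fixed by the whole group is trivial. -/
theorem weight_eq_one_of_fixed (α : A →* MulAut T) (hfpf : ∀ t, (∀ a, α a t = t) → t = 1)
    (hcop : (Nat.card A).Coprime (Nat.card T)) {χ : T → k} (h1 : χ 1 = 1)
    (hmul : ∀ a b, χ (a * b) = χ a * χ b) (hfix : weightStab α χ = ⊤) (t : T) : χ t = 1 := by
  classical
  haveI := Fintype.ofFinite A
  let χh : T →* k := { toFun := χ, map_one' := h1, map_mul' := hmul }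
  have hp : ∏ a : A, α a t = 1 := hfpf _ fun d => by
    rw [map_prod]
    exact Fintype.prod_equiv (Equiv.mulLeft d) _ _ fun a => by
      rw [Equiv.coe_mulLeft, map_mul, MulAut.mul_apply]
  have h6 : χ t ^ Nat.card A = 1 := by
    have h : χh (∏ a : A, α a t) = χh 1 := by rw [hp]
    rw [map_prod, map_one] at h
    have h' : ∏ a : A, χh t = (1 : k) := by
      rw [← h]
      exact Finset.prod_congr rfl fun a _ =>
        (apply_eq_of_mem_weightStab (show a ∈ weightStab α χ from hfix ▸ Subgroup.mem_top a) t).symm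
    rw [Finset.prod_const, Finset.card_univ, ← Nat.card_eq_fintype_card] at h'
    exact h'
  have ho : χ t ^ Nat.card T = 1 := by
    show χh t ^ Nat.card T = 1
    rw [← map_pow, pow_card_eq_one', map_one]
  have := pow_gcd_eq_one.mpr ⟨h6, ho⟩
  rwa [hcop, pow_one] at this

omit [Finite T] in
/-- A weight has a nontrivial stabiliser. -/
theorem weightStab_ne_bot [Fintype A] (α : A →* MulAut T) (ρ : T →* Module.End k W)
    (σ : A →* Module.End k W) (hcompat : ∀ a t, σ a * ρ t = ρ (α a t) * σ a)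
    (hsum : ∀ v, ∑ a, σ a v = 0) {χ : T → k}
    (hχ : FpfSymThree.jointEigen (fun t => ρ t) χ ≠ ⊥) : weightStab α χ ≠ ⊥ := by
  classical
  intro hbot
  obtain ⟨v, hv, hv0⟩ := Submodule.exists_mem_ne_zero_of_ne_bot hχ
  have hinj : Function.Injective fun a => FpfSymThree.pullback (α a) χ := by
    intro a b hab
    simp only at hab
    have : a⁻¹ * b ∈ weightStab α χ := by
      rw [mem_weightStab, map_mul, FpfSymThree.pullback_mul, ← hab, ← FpfSymThree.pullback_mul,
        ← map_mul, inv_mul_cancel, map_one]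
      rfl
    rw [hbot, Subgroup.mem_bot] at this
    exact inv_mul_eq_one.mp this
  have h := (iSupIndep_iff_finsetSum_eq_zero_imp_eq_zero _).mp
    ((FpfSymThree.iSupIndep_jointEigen fun t => ρ t).comp hinj) Finset.univ (fun a => σ a v)
    (fun a _ => FpfSymThree.apply_mem_jointEigen (fun t => hcompat a t) hv) (hsum v) 1
    (Finset.mem_univ _)
  rw [map_one, Module.End.one_apply] at h
  exact hv0 h

omit [Finite T] in
/-- The sum over the stabiliser annihilates the weight space. -/
theorem sum_weightStab_eq_zero [Fintype A] (α : A →* MulAut T) (ρ : T →* Module.End k W)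
    (σ : A →* Module.End k W) (hcompat : ∀ a t, σ a * ρ t = ρ (α a t) * σ a)
    (hsum : ∀ v, ∑ a, σ a v = 0) {χ : T → k} {h : A} {ℓ : ℕ}
    (hgen : Subgroup.zpowers h = weightStab α χ) (hℓ : orderOf h = ℓ) {v : W}
    (hv : v ∈ FpfSymThree.jointEigen (fun t => ρ t) χ) :
    ∑ i ∈ Finset.range ℓ, σ (h ^ i) v = 0 := by
  classical
  have hfib := Finset.sum_fiberwise_of_maps_to (s := (Finset.univ : Finset A))
    (t := Finset.univ.image fun a => FpfSymThree.pullback (α a) χ)
    (g := fun a => FpfSymThree.pullback (α a) χ)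
    (fun a ha => Finset.mem_image_of_mem _ ha) (fun a => σ a v)
  rw [hsum] at hfib
  have h0 := (iSupIndep_iff_finsetSum_eq_zero_imp_eq_zero _).mp
    (FpfSymThree.iSupIndep_jointEigen fun t => ρ t) _
    (fun c => ∑ a ∈ Finset.univ with FpfSymThree.pullback (α a) χ = c, σ a v)
    (fun c _ => Submodule.sum_mem _ fun a ha => by
      rw [← (Finset.mem_filter.mp ha).2]
      exact FpfSymThree.apply_mem_jointEigen (fun t => hcompat a t) hv) hfib χ
    (Finset.mem_image.mpr ⟨1, Finset.mem_univ _, by rw [map_one]; rfl⟩)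
  refine Eq.trans ?_ h0
  refine Finset.sum_bij (fun i _ => h ^ i) ?_ ?_ ?_ fun i _ => rfl
  · intro i _
    refine Finset.mem_filter.mpr ⟨Finset.mem_univ _, ?_⟩
    exact mem_weightStab.mp (hgen ▸ Subgroup.npow_mem_zpowers h i)
  · intro i hi j hj hij
    rw [Finset.mem_range, ← hℓ] at hi hj
    exact pow_injOn_Iio_orderOf hi hj hij
  · intro a ha
    have hmem : a ∈ Subgroup.zpowers h := hgen ▸ mem_weightStab.mpr (Finset.mem_filter.mp ha).2
    have := mem_zpowers_iff_mem_range_orderOf.mp hmem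
    obtain ⟨i, hi, rfl⟩ := Finset.mem_image.mp this
    exact ⟨i, by rw [← hℓ]; exact hi, rfl⟩

omit [Finite A] in
/-- Weight spaces span. -/
theorem iSup_jointEigen_eq_top [IsAlgClosed k] [FiniteDimensional k W] (ρ : T →* Module.End k W)
    (hT : (Nat.card T : k) ≠ 0) :
    ⨆ χ, FpfSymThree.jointEigen (fun t => ρ t) χ = ⊤ := by
  have hss : ∀ t, (ρ t).IsSemisimple := fun t =>
    Module.End.isSemisimple_of_squarefree_aeval_eq_zero
      (p := (Polynomial.X ^ Nat.card T - 1 : Polynomial k))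
      (Polynomial.X_pow_sub_one_separable_iff.mpr hT).squarefree
      (by rw [map_sub, map_pow, Polynomial.aeval_X, map_one, ← map_pow, pow_card_eq_one', map_one, sub_self])
  have hE : ∀ χ : T → k, FpfSymThree.jointEigen (fun t => ρ t) χ =
      ⨅ t, (ρ t).maxGenEigenspace (χ t) := fun χ => by
    ext v
    simp only [Submodule.mem_iInf,
      (hss _).isFinitelySemisimple.maxGenEigenspace_eq_eigenspace, Module.End.mem_eigenspace_iff]
    rfl
  simp only [hE]
  refine Module.End.iSup_iInf_maxGenEigenspace_eq_top_of_forall_mapsTo (fun t => ρ t) ?_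
    fun t => Module.End.iSup_maxGenEigenspace_eq_top _
  intro i j c v hv
  rw [SetLike.mem_coe, (hss j).isFinitelySemisimple.maxGenEigenspace_eq_eigenspace,
    Module.End.mem_eigenspace_iff] at hv ⊢
  rw [← Module.End.mul_apply, ← map_mul, mul_comm, map_mul, Module.End.mul_apply, hv, map_smul]

end Weights

end Cfsg.Agent.Lib.FpfPq
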