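import Cfsg.Agent.Lib.FpfPq.Config

/-!
# The configuration with a class two group

Every commutator pairing induced by a weight of the centre vanishes, so the group is abelian.
-/

set_option autoImplicit false

namespace Cfsg.Agent.Lib.FpfPq

open Cfsg.Agent.Lib
open scoped commutatorElement

variable {A : Type*} [Group A] [Finite A] [Fintype A] {Q : Subgroup A} {R : Type*} [Group R]
  [Finite R] {S : Type*} [CommGroup S] [Finite S] {k W : Type*} [Field k] [AddCommGroup W]
  [Module k W] [IsAlgClosed k] [FiniteDimensional k W] {φ : A →* MulAut R} {ψ : A →* MulAut S}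
  {θ : S →* MulAut R} {ρ : R →* Module.End k W} {σ : A →* Module.End k W}

theorem IsConfig.comm_of_class_two (hc : IsConfig Q φ ψ θ ρ σ) {r : ℕ} (hr : r.Prime)
    (hR : IsPGroup r R) (hcl : ∀ x y : R, ⁅x, y⁆ ∈ Subgroup.center R)
    (hfixZ : ∀ t, ∀ z ∈ Subgroup.center R, θ t z = z)
    (hCS : ∀ x, (∀ t, θ t x = x) → x ∈ Subgroup.center R) (x y : R) : x * y = y * x := by
  classical
  haveI := Fact.mk hr
  have hsolv : Group.IsSolvable R := haveI := hR.isNilpotent; inferInstance
  haveI := hsolv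
  revert x y
  set Z := Subgroup.center R with hZ
  have hZinv : ∀ a, ∀ z ∈ Z, φ a z ∈ Z := by
    intro a z hz
    rw [hZ, Subgroup.mem_center_iff] at hz ⊢
    intro g
    have h := congrArg (φ a) (hz (φ a⁻¹ g))
    rw [map_mul, map_mul, map_inv, MulAut.apply_inv_self] at h
    exact h
  letI : CommGroup Z :=
    { Z.toGroup with
      mul_comm := fun z w => Subtype.ext (Subgroup.mem_center_iff.mp z.2 w).symm }
  let α : A →* MulAut Z := Wielandt.restrictAct φ Z hZinv
  let ρZ : Z →* Module.End k W := ρ.comp Z.subtype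
  have hcompatZ : ∀ a (z : Z), σ a * ρZ z = ρZ (α a z) * σ a := fun a z => hc.compatW a z
  have hfpfZ : ∀ z : Z, (∀ a, α a z = z) → z = 1 := fun z hz =>
    Subtype.ext (hc.fpfR z fun a => congrArg Subtype.val (hz a))
  have hcopZ : (Nat.card A).Coprime (Nat.card Z) :=
    hc.copR.coprime_dvd_right Z.card_subgroup_dvd_card
  have hcardZ : (Nat.card Z : k) ≠ 0 := by
    intro h0
    obtain ⟨d, hd⟩ := Z.card_subgroup_dvd_card
    exact hc.cardR_ne (by rw [hd, Nat.cast_mul, h0, zero_mul])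
  set E := FpfSymThree.jointEigen fun z : Z => ρZ z with hE
  have hspan : ⨆ ζ, E ζ = ⊤ := iSup_jointEigen_eq_top ρZ hcardZ
  -- the commutator as an element of the centre
  let cz : R → R → Z := fun x y => ⟨⁅x, y⁆, hcl x y⟩
  suffices hkey : ∀ ζ, E ζ ≠ ⊥ → ∀ x y, ζ (cz x y) = 1 by
    intro x y
    refine commutatorElement_eq_one_iff_mul_comm.mp (hc.inj (LinearMap.ext fun v => ?_))
    have hle : ⨆ ζ, E ζ ≤ LinearMap.eqLocus (ρ ⁅x, y⁆) (ρ 1) := by
      refine iSup_le fun ζ w hw => ?_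
      show ρ ⁅x, y⁆ w = ρ 1 w
      by_cases hζ : E ζ = ⊥
      · rw [hζ, Submodule.mem_bot] at hw
        rw [hw, map_zero, map_zero]
      · rw [map_one, Module.End.one_apply, show ρ ⁅x, y⁆ w = ζ (cz x y) • w from hw (cz x y),
          hkey ζ hζ x y, one_smul]
    exact hle (hspan ▸ Submodule.mem_top)
  have hstab0 : ∀ ζ, E ζ ≠ ⊥ → weightStab α ζ ≠ ⊥ := fun ζ hζ =>
    weightStab_ne_bot α ρZ σ hcompatZ hc.sum_eq hζ
  have hstab1 : ∀ ζ, E ζ ≠ ⊥ → weightStab α ζ = ⊤ → ∀ z, ζ z = 1 := fun ζ hζ h0 z =>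
    weight_eq_one_of_fixed α hfpfZ hcopZ (weight_mul ρZ hζ).1 (weight_mul ρZ hζ).2 h0 z
  have hcl' : ∀ x y g : R, g * ⁅x, y⁆ * g⁻¹ = ⁅x, y⁆ := fun x y g => by
    rw [(Subgroup.mem_center_iff.mp (hcl x y) g), mul_inv_cancel_right]
  have hczmul : ∀ x x' y, cz (x * x') y = cz x y * cz x' y := fun x x' y => Subtype.ext (by
    show ⁅x * x', y⁆ = ⁅x, y⁆ * ⁅x', y⁆
    rw [show ⁅x * x', y⁆ = x * ⁅x', y⁆ * x⁻¹ * ⁅x, y⁆ by simp only [commutatorElement_def]; group,
      hcl']
    exact Subgroup.mem_center_iff.mp (hcl x y) _)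
  have hczswap : ∀ x y, cz x y * cz y x = 1 := fun x y => Subtype.ext (by
    show ⁅x, y⁆ * ⁅y, x⁆ = 1
    rw [← commutatorElement_inv y x, inv_mul_cancel])
  -- the radical of a weight
  let X : ∀ ζ, E ζ ≠ ⊥ → Subgroup R := fun ζ hζ =>
    { carrier := {x | ∀ y, ζ (cz x y) = 1}
      one_mem' := fun y => by
        rw [show cz 1 y = 1 from Subtype.ext (commutatorElement_one_left y)]
        exact (weight_mul ρZ hζ).1
      mul_mem' := fun {a b} ha hb y => by
        rw [hczmul, (weight_mul ρZ hζ).2, ha y, hb y, one_mul]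
      inv_mem' := fun {a} ha y => by
        have h1 : cz a⁻¹ y * cz a y = 1 := by
          rw [← hczmul, inv_mul_cancel]; exact Subtype.ext (commutatorElement_one_left y)
        have h2 := (weight_mul ρZ hζ).2 (cz a⁻¹ y) (cz a y)
        rw [h1, (weight_mul ρZ hζ).1, ha y, mul_one] at h2
        exact h2.symm }
  have hXZ : ∀ ζ hζ, Z ≤ X ζ hζ := fun ζ hζ z hz y => by
    rw [show cz z y = 1 from Subtype.ext (commutatorElement_eq_one_iff_mul_comm.mpr
      (Subgroup.mem_center_iff.mp hz y).symm)]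
    exact (weight_mul ρZ hζ).1
  have hXn : ∀ ζ hζ, (X ζ hζ).Normal := fun ζ hζ => ⟨fun n hn g => by
    rw [show g * n * g⁻¹ = ⁅g, n⁆ * n by rw [commutatorElement_def]; group]
    exact (X ζ hζ).mul_mem (hXZ ζ hζ (hcl g n)) hn⟩
  have hXθ : ∀ ζ hζ t, ∀ n ∈ X ζ hζ, θ t n ∈ X ζ hζ := fun ζ hζ t n hn y => by
    have h1 : cz (θ t n) y = cz n ((θ t).symm y) := Subtype.ext (by
      show ⁅θ t n, y⁆ = ⁅n, (θ t).symm y⁆
      rw [← hfixZ t _ (hcl n ((θ t).symm y)), map_commutatorElement, MulEquiv.apply_symm_apply])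
    rw [h1]
    exact hn _
  have hXφ : ∀ ζ hζ, ∀ a ∈ weightStab α ζ, ∀ n ∈ X ζ hζ, φ a n ∈ X ζ hζ :=
    fun ζ hζ a ha n hn y => by
    have h1 : cz (φ a n) y = α a (cz n ((φ a).symm y)) := Subtype.ext (by
      show ⁅φ a n, y⁆ = φ a ⁅n, (φ a).symm y⁆
      rw [map_commutatorElement, MulEquiv.apply_symm_apply])
    rw [h1, apply_eq_of_mem_weightStab ha]
    exact hn _
  -- lifting fixed points of subgroups of `S`
  have hlift : ∀ ζ hζ (T : Subgroup S) (x : R), (∀ t ∈ T, x⁻¹ * θ t x ∈ X ζ hζ) →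
      ∃ v, (∀ t ∈ T, θ t v = v) ∧ v⁻¹ * x ∈ X ζ hζ := fun ζ hζ T x hx => by
    haveI := hXn ζ hζ
    exact FpfSymThree.exists_fixed_of_mod θ hc.copSR (X ζ hζ) (hXθ ζ hζ) T hx
  -- the data attached to a weight
  have hdata : ∀ ζ (hζ : E ζ ≠ ⊥) (h : A) (ℓ : ℕ), ℓ.Prime → orderOf h = ℓ → ℓ ∣ Nat.card A →
      Subgroup.zpowers h = weightStab α ζ →
      (∀ t ∈ commRange ψ h, ∀ x, x⁻¹ * θ t x ∈ X ζ hζ) ∧
      (ψ h = 1 → (∀ x, x⁻¹ * φ h x ∈ X ζ hζ → x ∈ X ζ hζ) → ∀ t x, x⁻¹ * θ t x ∈ X ζ hζ) := by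
    intro ζ hζ h ℓ hℓ hord hdvd hzh
    set N := X ζ hζ
    haveI := hXn ζ hζ
    have hRU : ∀ (x : R), ∀ v ∈ E ζ, ρ x v ∈ E ζ := fun x v hv z => by
      show ρ z (ρ x v) = ζ z • ρ x v
      rw [← Module.End.mul_apply, ← map_mul, (Subgroup.mem_center_iff.mp z.2 x).symm, map_mul,
        Module.End.mul_apply, show ρ (z : R) v = ζ z • v from hv z, map_smul]
    have hgU : ∀ v ∈ E ζ, σ h v ∈ E ζ := fun v hv => by
      have h1 := FpfSymThree.apply_mem_jointEigen (α := α h) (fun z => hcompatZ h z) hv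
      rwa [mem_weightStab.mp (hzh.le (Subgroup.mem_zpowers h) : h ∈ weightStab α ζ)] at h1
    haveI : Nontrivial (E ζ) := Submodule.nontrivial_iff_ne_bot.mpr hζ
    let RU : R →* Module.End k (E ζ) :=
      { toFun := fun x => (ρ x).restrict (hRU x)
        map_one' := LinearMap.ext fun u => Subtype.ext (by show ρ 1 u = _; rw [map_one]; rfl)
        map_mul' := fun x y => LinearMap.ext fun u => Subtype.ext (by
          show ρ (x * y) u = ρ x (ρ y u); rw [map_mul]; rfl) }
    let g : Module.End k (E ζ) := (σ h).restrict hgU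
    have hscal : ∀ x y, RU ⁅x, y⁆ = ζ (cz x y) • 1 := fun x y =>
      LinearMap.ext fun u => Subtype.ext (u.2 (cz x y))
    have hNiff : ∀ x, x ∈ N ↔ ∀ y, RU ⁅x, y⁆ = 1 := fun x => by
      refine forall_congr' fun y => ⟨fun h1 => by rw [hscal, h1, one_smul], fun h1 => ?_⟩
      apply smul_one_injective (U := E ζ)
      rw [← hscal, h1, one_smul]
    have hgsum : ∑ i ∈ Finset.range ℓ, g ^ i = 0 := by
      refine LinearMap.ext fun u => Subtype.ext ?_
      have hpow : ∀ i : ℕ, (((g ^ i) u : E ζ) : W) = σ (h ^ i) u := by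
        intro i
        induction i with
        | zero => rw [pow_zero, pow_zero, map_one]; rfl
        | succ i ih =>
          rw [pow_succ', pow_succ', map_mul, Module.End.mul_apply, Module.End.mul_apply, ← ih]
          rfl
      rw [LinearMap.sum_apply, Submodule.coe_sum, Finset.sum_congr rfl fun i _ => hpow i,
        sum_weightStab_eq_zero α ρZ σ hcompatZ hc.sum_eq hzh hord u.2]
      rfl
    have hℓk : (ℓ : k) ≠ 0 := by
      intro h0
      obtain ⟨d, hd⟩ := hdvd
      exact hc.cardA_ne (by rw [hd, Nat.cast_mul, h0, zero_mul])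
    have hNst : ∀ a : weightStab α ζ, ∀ n ∈ N, (φ.comp (weightStab α ζ).subtype) a n ∈ N :=
      fun a n hn => hXφ ζ hζ a a.2 n hn
    let hbar : MulAut (R ⧸ N) := Wielandt.quotientAct (φ.comp (weightStab α ζ).subtype) N hNst
      ⟨h, hzh.le (Subgroup.mem_zpowers h)⟩
    have hhbar : ∀ x : R, hbar x = (φ h x : R) := fun _ => rfl
    have hφℓ : φ h ^ ℓ = 1 := by rw [← map_pow, ← hord, pow_orderOf_eq_one, map_one]
    have hbarℓ : hbar ^ ℓ = 1 := by
      rw [← map_pow, show (⟨h, hzh.le (Subgroup.mem_zpowers h)⟩ : weightStab α ζ) ^ ℓ = 1 from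
        Subtype.ext (by rw [SubmonoidClass.coe_pow, ← hord, pow_orderOf_eq_one]; rfl), map_one]
    have hkey := card_le_of_fpf RU g (φ h) hℓ hφℓ
      (fun x => LinearMap.ext fun u => Subtype.ext (LinearMap.congr_fun (hc.compatW h x) u))
      hgsum hℓk (fun x y => ⟨_, hscal x y⟩) N hNiff hbar hhbar
    obtain ⟨hcm, β, hβ, hβR⟩ := exists_pairing RU (fun x y => ⟨_, hscal x y⟩) N hNiff
    letI : CommGroup (R ⧸ N) := { (inferInstance : Group (R ⧸ N)) with mul_comm := hcm }
    have hβval : ∀ x y : R, ((β x y : kˣ) : k) = ζ (cz x y) := fun x y =>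
      smul_one_injective (U := E ζ) ((hβR x y).symm.trans (hscal x y))
    let θbar : S →* MulAut (R ⧸ N) := Wielandt.quotientAct θ N (hXθ ζ hζ)
    have hθbar : ∀ t (x : R), θbar t x = (θ t x : R) := fun _ _ => rfl
    have hθβ : ∀ t a b, β (θbar t a) (θbar t b) = β a b := by
      intro t a b
      induction a using QuotientGroup.induction_on with
      | H x =>
        induction b using QuotientGroup.induction_on with
        | H y =>
          refine Units.ext ?_
          rw [hθbar, hθbar, hβval, hβval]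
          congr 1
          exact Subtype.ext (by
            show ⁅θ t x, θ t y⁆ = ⁅x, y⁆
            rw [← map_commutatorElement, hfixZ t _ (hcl x y)])
    have hhβ : ∀ a b, β (hbar a) (hbar b) = β a b := by
      intro a b
      induction a using QuotientGroup.induction_on with
      | H x =>
        induction b using QuotientGroup.induction_on with
        | H y =>
          refine Units.ext ?_
          rw [hhbar, hhbar, hβval, hβval,
            show cz (φ h x) (φ h y) = α h (cz x y) from Subtype.ext (by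
              show ⁅φ h x, φ h y⁆ = φ h ⁅x, y⁆; rw [map_commutatorElement]),
            apply_eq_of_mem_weightStab (hzh.le (Subgroup.mem_zpowers h) : h ∈ weightStab α ζ)]
    have hcompatq : ∀ t, hbar * θbar t = θbar (ψ h t) * hbar := fun t => MulEquiv.ext fun q => by
      induction q using QuotientGroup.induction_on with
      | H x =>
        show ((φ h (θ t x) : R) : R ⧸ N) = ((θ (ψ h t) (φ h x) : R) : R ⧸ N)
        have := MulEquiv.ext_iff.mp (hc.compatS h t) x
        rw [MulAut.mul_apply, MulAut.mul_apply] at this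
        rw [this]
    have hcopM : (Nat.card S).Coprime (Nat.card (R ⧸ N)) :=
      hc.copSR.coprime_dvd_right N.card_quotient_dvd_card
    have hℓM : (Nat.card (R ⧸ N)).Coprime ℓ :=
      ((hc.copR.coprime_dvd_left hdvd).coprime_dvd_right N.card_quotient_dvd_card).symm
    refine ⟨fun t ht x => ?_, fun hψ hC t x => ?_⟩
    · let L := commRange ψ h
      let η : MulAut L :=
        MulEquiv.ofBijective
          (MonoidHom.mk' (fun u : L => (⟨ψ h u, commRange_invariant ψ h u.2⟩ : L))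
            fun u w => Subtype.ext (map_mul (ψ h) (u : S) w))
          (Finite.injective_iff_bijective.mp fun u w huw =>
            Subtype.ext ((ψ h).injective (congrArg Subtype.val huw)))
      have hη : ∀ (i : ℕ) (u : L), (((η ^ i) u : L) : S) = (ψ h ^ i) u := by
        intro i
        induction i with
        | zero => intro u; rfl
        | succ i ih =>
          intro u
          rw [pow_succ', pow_succ', MulAut.mul_apply, MulAut.mul_apply, ← ih]
          rfl
      have hηℓ : η ^ ℓ = 1 := MulEquiv.ext fun u => Subtype.ext (by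
        rw [hη, ← map_pow, ← hord, pow_orderOf_eq_one, map_one]; rfl)
      have h1 := eq_one_of_frobenius hβ hℓ hbar hbarℓ hhβ (θbar.comp L.subtype) η hηℓ
        (fun u hu => Subtype.ext (hc.fpf_commRange hord hdvd u.2 (congrArg Subtype.val hu)))
        (fun u => hcompatq u) (fun u a b => hθβ u a b)
        (hcopM.coprime_dvd_left L.card_subgroup_dvd_card) hℓM
        (((hc.copS.coprime_dvd_left hdvd).symm).coprime_dvd_left L.card_subgroup_dvd_card)
        hkey ⟨t, ht⟩
      exact QuotientGroup.eq.mp (MulEquiv.ext_iff.mp h1 (x : R ⧸ N)).symm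
    · have hfp : ∀ q : R ⧸ N, hbar q = q → q = 1 := by
        intro q hq
        induction q using QuotientGroup.induction_on with
        | H x => exact (QuotientGroup.eq_one_iff x).mpr (hC x (QuotientGroup.eq.mp hq.symm))
      have hC1 : Nat.card {q : R ⧸ N // hbar q = q} = 1 :=
        Nat.card_eq_one_iff_unique.mpr ⟨⟨fun a b => Subtype.ext ((hfp _ a.2).trans (hfp _ b.2).symm)⟩,
          ⟨⟨1, map_one _⟩⟩⟩
      rw [hC1, mul_one] at hkey
      have h1 := eq_one_of_commute_fpf hβ hr hℓ (hR.to_quotient N) hbar hbarℓ hhβ hfp hkey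
        (θbar t) (by rw [hcompatq t, hψ]; rfl) (fun a b => hθβ t a b)
        (N := Nat.card S) ((hc.copS.coprime_dvd_left hdvd).symm)
        (by rw [← map_pow, pow_card_eq_one', map_one])
      exact QuotientGroup.eq.mp (MulEquiv.ext_iff.mp h1 (x : R ⧸ N)).symm
  have hfull : ∀ ζ hζ, (∀ t x, x⁻¹ * θ t x ∈ X ζ hζ) → ∀ x, x ∈ X ζ hζ := by
    intro ζ hζ hall x
    obtain ⟨v, hv, hvx⟩ := hlift ζ hζ ⊤ x fun t _ => hall t x
    have h1 := (X ζ hζ).mul_mem (hXZ ζ hζ (hCS v fun t => hv t (Subgroup.mem_top t))) hvx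
    rwa [mul_inv_cancel_left] at h1
  obtain ⟨g, ℓQ, hℓQ, hordQ, hdvdQ, hg⟩ := hc.grp.exists_generator hc.grp.ne_bot hc.grp.ne_top
  rcases hc.commRange_eq_bot_or_top hg with hQS | hQS
  · -- `Q` centralises `S`
    have hψ := hc.apply_eq_one_of_bot hQS
    intro ζ hζ x y
    by_cases hst : weightStab α ζ = ⊤
    · exact hstab1 ζ hζ hst _
    obtain ⟨h, ℓ, hℓ, hord, hdvd, hzh⟩ := hc.grp.exists_generator (hstab0 ζ hζ) hst
    refine hfull ζ hζ (fun t z => ?_) x y
    by_cases hHQ : weightStab α ζ = Q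
    · refine (hdata ζ hζ g ℓQ hℓQ hordQ hdvdQ (hg.trans hHQ.symm)).2 hψ (fun w hw => ?_) t z
      haveI := hXn ζ hζ
      have hQinv : ∀ a : Q, ∀ n ∈ X ζ hζ, (φ.comp Q.subtype) a n ∈ X ζ hζ :=
        fun a n hn => hXφ ζ hζ a (hHQ ▸ a.2) n hn
      have hfix : ∀ b ∈ (⊤ : Subgroup Q), w⁻¹ * (φ.comp Q.subtype) b w ∈ X ζ hζ := by
        intro b _
        obtain ⟨i, hi⟩ : ∃ i : ℕ, g ^ i = b := by
          have hb : (b : A) ∈ Subgroup.zpowers g := hg.ge b.2
          obtain ⟨i, -, hi⟩ := Finset.mem_image.mp (mem_zpowers_iff_mem_range_orderOf.mp hb)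
          exact ⟨i, hi⟩
        show w⁻¹ * φ b w ∈ X ζ hζ
        rw [← hi]
        clear hi
        induction i with
        | zero => rw [pow_zero, map_one, MulAut.one_apply, inv_mul_cancel]; exact one_mem _
        | succ i ih =>
          rw [pow_succ', map_mul, MulAut.mul_apply,
            show w⁻¹ * φ g (φ (g ^ i) w) = (w⁻¹ * φ g w) * φ g (w⁻¹ * φ (g ^ i) w) by
              rw [map_mul, map_inv]; group]
          exact mul_mem hw
            (hXφ ζ hζ g (hHQ ▸ hg.le (Subgroup.mem_zpowers g)) _ ih)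
      obtain ⟨v, hv, hvw⟩ := FpfSymThree.exists_fixed_of_mod (φ.comp Q.subtype)
        (hc.copR.coprime_dvd_left Q.card_subgroup_dvd_card) (X ζ hζ) hQinv ⊤ hfix
      have hvQ : ∀ b ∈ Q, φ b v = v := fun b hb => hv ⟨b, hb⟩ (Subgroup.mem_top _)
      have hvS : ∀ u, θ u v = v := fun u => hc.apply_eq_self_of_fixedQ hg hψ hsolv hvQ u
      have h1 := (X ζ hζ).mul_mem (hXZ ζ hζ (hCS v hvS)) hvw
      rwa [mul_inv_cancel_left] at h1
    · have htop : commRange ψ h = ⊤ := by
        have := hc.sup_commRange_eq_top (h := g) (h' := h) (by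
          rw [hg, hzh]; exact hc.grp.sup_eq_top hc.grp.ne_bot (hstab0 ζ hζ) (Ne.symm hHQ))
        rwa [hQS, bot_sup_eq] at this
      exact (hdata ζ hζ h ℓ hℓ hord hdvd hzh).1 t (htop ▸ Subgroup.mem_top t) z
  · -- `Q` is fixed-point-free on `S`
    have hQweight : ∀ ζ (hζ : E ζ ≠ ⊥), weightStab α ζ = Q → ∀ x, x ∈ X ζ hζ := fun ζ hζ hHQ =>
      hfull ζ hζ fun t z =>
        (hdata ζ hζ g ℓQ hℓQ hordQ hdvdQ (hg.trans hHQ.symm)).1 t (hQS ▸ Subgroup.mem_top t) z
    intro ζ hζ x y
    by_cases hst : weightStab α ζ = ⊤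
    · exact hstab1 ζ hζ hst _
    by_cases hHQ : weightStab α ζ = Q
    · exact hQweight ζ hζ hHQ x y
    obtain ⟨h, ℓ, hℓ, hord, hdvd, hzh⟩ := hc.grp.exists_generator (hstab0 ζ hζ) hst
    set L := commRange ψ h
    have hother : ∀ ζ', E ζ' ≠ ⊥ → weightStab α ζ' ≠ weightStab α ζ → ∀ l,
        (∀ u ∈ L, θ u l = l) → ∀ m, ζ' (cz l m) = 1 := by
      intro ζ' hζ' hdiff l hl m
      by_cases hst' : weightStab α ζ' = ⊤
      · exact hstab1 ζ' hζ' hst' _
      by_cases hHQ' : weightStab α ζ' = Q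
      · exact hQweight ζ' hζ' hHQ' l m
      obtain ⟨h', ℓ', hℓ', hord', hdvd', hzh'⟩ :=
        hc.grp.exists_generator (hstab0 ζ' hζ') hst'
      have htop : L ⊔ commRange ψ h' = ⊤ := hc.sup_commRange_eq_top (by
        rw [hzh, hzh']; exact hc.grp.sup_eq_top (hstab0 ζ hζ) (hstab0 ζ' hζ') (Ne.symm hdiff))
      have hall : ∀ t, l⁻¹ * θ t l ∈ X ζ' hζ' := by
        intro t
        obtain ⟨u, hu, u', hu', rfl⟩ :=
          Subgroup.mem_sup.mp (htop ▸ Subgroup.mem_top t : t ∈ L ⊔ commRange ψ h')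
        rw [mul_comm, map_mul, MulAut.mul_apply, hl u hu]
        exact (hdata ζ' hζ' h' ℓ' hℓ' hord' hdvd' hzh').1 u' hu' l
      obtain ⟨v, hv, hvl⟩ := hlift ζ' hζ' ⊤ l fun t _ => hall t
      have h1 := (X ζ' hζ').mul_mem (hXZ ζ' hζ' (hCS v fun t => hv t (Subgroup.mem_top t))) hvl
      rw [mul_inv_cancel_left] at h1
      exact h1 m
    -- replace `x` and `y` by fixed points of `[S, h]`
    have hred : ∀ x, ∃ v, (∀ u ∈ L, θ u v = v) ∧ v⁻¹ * x ∈ X ζ hζ := fun x =>
      hlift ζ hζ L x fun t ht => (hdata ζ hζ h ℓ hℓ hord hdvd hzh).1 t ht x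
    obtain ⟨l, hl, hlx⟩ := hred x
    obtain ⟨m, hm, hmy⟩ := hred y
    have hm1 : ζ (cz x y) = ζ (cz l m) := by
      have hw := weight_mul ρZ hζ
      have e1 : cz x y = cz l y * cz (l⁻¹ * x) y := by rw [← hczmul, mul_inv_cancel_left]
      have e2 : cz y l = cz m l * cz (m⁻¹ * y) l := by rw [← hczmul, mul_inv_cancel_left]
      have e3 : ζ (cz l y) * ζ (cz y l) = 1 := by rw [← hw.2, hczswap, hw.1]
      have e4 : ζ (cz l m) * ζ (cz m l) = 1 := by rw [← hw.2, hczswap, hw.1]
      rw [e1, hw.2, hlx y, mul_one]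
      rw [e2, hw.2, hmy l, mul_one] at e3
      have hne : ζ (cz m l) ≠ 0 := fun h0 => by rw [h0, mul_zero] at e4; exact zero_ne_one e4
      exact mul_right_cancel₀ hne (e3.trans e4.symm)
    rw [hm1]
    set z := cz l m with hz
    have hLh : ∀ l, (∀ u ∈ L, θ u l = l) → ∀ u ∈ L, θ u (φ h l) = φ h l := by
      intro l hl u hu
      obtain ⟨w', rfl⟩ := hu
      have e := MulEquiv.ext_iff.mp (hc.compatS h ((ψ h⁻¹ w')⁻¹ * ψ h (ψ h⁻¹ w'))) l
      rw [MulAut.mul_apply, MulAut.mul_apply, hl _ (mem_commRange ψ h _)] at e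
      conv_rhs => rw [e]
      simp [map_mul, map_inv, div_eq_mul_inv, mul_comm]
    have hhz : α h z = z := by
      refine Subtype.ext (hc.inj (LinearMap.ext fun v => ?_))
      have hle : ⨆ ζ', E ζ' ≤ LinearMap.eqLocus (ρZ (α h z)) (ρZ z) := by
        refine iSup_le fun ζ' w hw => ?_
        show ρZ (α h z) w = ρZ z w
        by_cases hζ' : E ζ' = ⊥
        · rw [hζ', Submodule.mem_bot] at hw
          rw [hw, map_zero, map_zero]
        · rw [hw (α h z), hw z]
          by_cases hsame : weightStab α ζ' = weightStab α ζ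
          · rw [apply_eq_of_mem_weightStab
              (hsame ▸ hzh.le (Subgroup.mem_zpowers h) : h ∈ weightStab α ζ') z]
          · rw [hz, hother ζ' hζ' hsame l hl m,
              show α h (cz l m) = cz (φ h l) (φ h m) from Subtype.ext (by
                show φ h ⁅l, m⁆ = ⁅φ h l, φ h m⁆; rw [map_commutatorElement]),
              hother ζ' hζ' hsame _ (hLh l hl)]
      exact hle (hspan ▸ Submodule.mem_top)
    haveI := Fintype.ofFinite Q
    have hw1 : ∏ b : Q, α b z = 1 := by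
      refine hfpfZ _ fun a => ?_
      have hle : Q ⊔ weightStab α ζ ≤
          (MulAction.stabilizer (MulAut Z) (∏ b : Q, α b z)).comap α := by
        refine sup_le (fun b hb => ?_) (hzh.ge.trans (Subgroup.zpowers_le.mpr ?_))
        · show α b (∏ c : Q, α c z) = _
          rw [map_prod]
          exact Fintype.prod_equiv (Equiv.mulLeft (⟨b, hb⟩ : Q)) _ _ fun c => by
            rw [Equiv.coe_mulLeft, Subgroup.coe_mul, map_mul, MulAut.mul_apply]
        · show α h (∏ c : Q, α c z) = _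
          rw [map_prod]
          haveI := hc.grp.normal
          refine Fintype.prod_equiv (MulAut.conjNormal h).toEquiv _ _ fun c => ?_
          show α h (α c z) = α (MulAut.conjNormal h c : Q) z
          conv_rhs => rw [MulAut.conjNormal_apply, map_mul, map_mul, MulAut.mul_apply,
            MulAut.mul_apply, map_inv, show (α h)⁻¹ z = z by
              conv_lhs => rw [← hhz]
              exact MulAut.inv_apply_self ..]
      exact hle (hc.grp.sup_eq_top hc.grp.ne_bot (hstab0 ζ hζ) (Ne.symm hHQ) ▸ Subgroup.mem_top a)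
    let wh : Z →* k := { toFun := ζ, map_one' := (weight_mul ρZ hζ).1,
                         map_mul' := (weight_mul ρZ hζ).2 }
    have h1 : ζ (∏ b : Q, α b z) = ∏ b : Q, ζ (α b z) :=
      map_prod wh (fun b : Q => α b z) Finset.univ
    rw [hw1, (weight_mul ρZ hζ).1, Finset.prod_eq_single (1 : Q)] at h1
    · rw [Subgroup.coe_one, map_one, MulAut.one_apply] at h1
      exact h1.symm
    · intro b _ hb
      set ζb := FpfSymThree.pullback (α (b : A)⁻¹) ζ
      have hζb : E ζb ≠ ⊥ := by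
        intro h0
        obtain ⟨v, hv, hv0⟩ := Submodule.exists_mem_ne_zero_of_ne_bot hζ
        have hm' : σ (b : A)⁻¹ v ∈ E ζb :=
          FpfSymThree.apply_mem_jointEigen (fun t => hcompatZ _ t) hv
        rw [h0, Submodule.mem_bot] at hm'
        exact ne_zero_rep_apply σ _ hv0 hm'
      have hval' : ζ (α b z) = ζb z := by
        show ζ (α b z) = ζ ((α (b : A)⁻¹).symm z)
        congr 1
        apply (α (b : A)⁻¹).injective
        rw [MulEquiv.apply_symm_apply, map_inv, MulAut.inv_apply_self]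
      rw [hval', hz]
      refine hother ζb hζb (fun hsame => hb (Subtype.ext ?_)) l hl m
      have := hc.grp.eq_one_of_normalizes (hstab0 ζ hζ) hst hHQ (Q.inv_mem b.2) fun a ha => by
        rw [← hsame, mem_weightStab]
        show FpfSymThree.pullback (α _) (FpfSymThree.pullback (α (b : A)⁻¹) ζ) =
          FpfSymThree.pullback (α (b : A)⁻¹) ζ
        rw [← FpfSymThree.pullback_mul, ← map_mul, inv_mul_cancel_right, map_mul,
          FpfSymThree.pullback_mul, mem_weightStab.mp ha]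
      rw [inv_eq_one] at this
      rw [this, Subgroup.coe_one]
    · exact fun hn => absurd (Finset.mem_univ _) hn

end Cfsg.Agent.Lib.FpfPq
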