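import Cfsg.Agent.Lib.Wielandt.Formula

/-!
# Finite abelian groups with a nondegenerate alternating pairing

Their order is a square; automorphisms preserving the pairing are restricted when an automorphism
of prime order `ℓ` has many fixed points compared with `(ℓ - 1)²`.
-/

set_option autoImplicit false

namespace Cfsg.Agent.Lib.FpfPq

open Cfsg.Agent.Lib

/-- A nondegenerate alternating pairing with values in the units of a field. -/
structure IsSymplectic {M : Type*} [CommGroup M] {k : Type*} [Field k] (β : M →* M →* kˣ) :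
    Prop where
  alt : ∀ x, β x x = 1
  nondeg : ∀ x, (∀ y, β x y = 1) → x = 1

namespace IsSymplectic

variable {M : Type*} [CommGroup M] {k : Type*} [Field k] {β : M →* M →* kˣ} (hβ : IsSymplectic β)
include hβ

theorem swap (x y : M) : β y x = (β x y)⁻¹ := by
  have h := hβ.alt (x * y)
  simp only [map_mul, MonoidHom.mul_apply, hβ.alt, one_mul, mul_one] at h
  exact eq_inv_of_mul_eq_one_left (by rw [mul_comm] at h; rwa [mul_comm] at h)

/-- The elements of `P` orthogonal to `P`. -/
def rad (_hβ : IsSymplectic β) (P : Subgroup M) : Subgroup M where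
  carrier := {z | z ∈ P ∧ ∀ y ∈ P, β z y = 1}
  one_mem' := ⟨P.one_mem, fun y _ => by rw [map_one]; rfl⟩
  mul_mem' := fun {a b} ha hb => ⟨P.mul_mem ha.1 hb.1, fun y hy => by
    rw [map_mul, MonoidHom.mul_apply, ha.2 y hy, hb.2 y hy, one_mul]⟩
  inv_mem' := fun {a} ha => ⟨P.inv_mem ha.1, fun y hy => by
    rw [map_inv, MonoidHom.inv_apply, ha.2 y hy, inv_one]⟩

omit hβ in
theorem exists_prime_pow_mem {G : Type*} [Group G] [Finite G] (H : Subgroup G) {x : G}
    (hx : x ∉ H) : ∃ (r m : ℕ), r.Prime ∧ x ^ m ∉ H ∧ (x ^ m) ^ r ∈ H := by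
  classical
  have hex : ∃ n, 0 < n ∧ x ^ n ∈ H :=
    ⟨orderOf x, orderOf_pos x, by rw [pow_orderOf_eq_one]; exact H.one_mem⟩
  obtain ⟨hn0, hnH⟩ := Nat.find_spec hex
  set n := Nat.find hex
  have hn1 : n ≠ 1 := fun h => hx (by rwa [h, pow_one] at hnH)
  obtain ⟨r, hr, m, hm⟩ := Nat.exists_prime_and_dvd hn1
  refine ⟨r, m, hr, fun h => ?_, by rwa [← pow_mul, mul_comm, ← hm]⟩
  have hm0 : 0 < m := Nat.pos_of_ne_zero fun h0 => by rw [hm, h0, mul_zero] at hn0; exact hn0.false
  have := Nat.find_min' hex ⟨hm0, h⟩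
  have h2 : m < n := by rw [hm]; exact lt_mul_of_one_lt_left hm0 hr.one_lt
  omega

/-- A pairing of `P` has square rank modulo its radical. -/
theorem exists_sq_mul_card_rad [Finite M] (P : Subgroup M) :
    ∃ m : ℕ, Nat.card P = m ^ 2 * Nat.card (hβ.rad P) := by
  induction hn : Nat.card P using Nat.strong_induction_on generalizing P with
  | _ n ih =>
    subst hn
    by_cases hPr : P ≤ hβ.rad P
    · refine ⟨1, ?_⟩
      rw [one_pow, one_mul, le_antisymm (fun z hz => hz.1) hPr]
    obtain ⟨x₀, hx₀P, hx₀⟩ := Set.not_subset.mp hPr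
    obtain ⟨r, e, hr, hxe, hxer⟩ := exists_prime_pow_mem (hβ.rad P) hx₀
    set x := x₀ ^ e with hxdef
    have hxP : x ∈ P := P.pow_mem hx₀P e
    obtain ⟨y, hyP, hy⟩ : ∃ y ∈ P, β x y ≠ 1 := by
      by_contra h
      push Not at h
      exact hxe ⟨hxP, h⟩
    haveI := Fact.mk hr
    let f : P →* kˣ := (β x).comp P.subtype
    have hfr : ∀ z, f z ^ r = 1 := fun z => by
      show β x z ^ r = 1
      rw [← MonoidHom.pow_apply, ← map_pow]
      exact hxer.2 z z.2
    haveI : Finite f.range := Finite.of_surjective f.rangeRestrict f.rangeRestrict_surjective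
    have hrange : Nat.card f.range = r := by
      haveI : IsCyclic f.range := isCyclic_subgroup_units _
      have hexp : Monoid.exponent f.range ∣ r := Monoid.exponent_dvd_of_forall_pow_eq_one
        fun z => Subtype.ext (by obtain ⟨w, hw⟩ := z.2; rw [SubmonoidClass.coe_pow, ← hw, hfr]; rfl)
      rw [IsCyclic.exponent_eq_card] at hexp
      refine (hr.eq_one_or_self_of_dvd _ hexp).resolve_left fun h1 => hy ?_
      haveI := (Nat.card_eq_one_iff_unique.mp h1).1
      exact congrArg Subtype.val (Subsingleton.elim (⟨f ⟨y, hyP⟩, _, rfl⟩ : f.range) 1)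
    set P' : Subgroup M := f.ker.map P.subtype with hP'
    have hmem : ∀ z, z ∈ P' ↔ z ∈ P ∧ β x z = 1 := by
      intro z
      constructor
      · rintro ⟨w, hw, rfl⟩
        exact ⟨w.2, MonoidHom.mem_ker.mp hw⟩
      · rintro ⟨h1, h2⟩
        exact ⟨⟨z, h1⟩, MonoidHom.mem_ker.mpr h2, rfl⟩
    have hcardP : Nat.card P = r * Nat.card P' := by
      rw [Subgroup.card_map_of_injective P.subtype_injective, ← hrange,
        ← Nat.card_congr (QuotientGroup.quotientKerEquivRange f).toEquiv,
        ← Subgroup.card_eq_card_quotient_mul_card_subgroup]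
    obtain ⟨m, hm⟩ := ih (Nat.card P') (by
      rw [hcardP]; exact lt_mul_of_one_lt_left Nat.card_pos hr.one_lt) P' rfl
    let g : hβ.rad P' →* kˣ := (β.flip y).comp (hβ.rad P').subtype
    have hgap : ∀ z : hβ.rad P', g z = β z y := fun z => rfl
    have hxP' : x ∈ hβ.rad P' :=
      ⟨(hmem x).mpr ⟨hxP, hβ.alt x⟩, fun w hw => ((hmem w).mp hw).2⟩
    have hyr : y ^ r ∈ P' := (hmem _).mpr ⟨P.pow_mem hyP r, by
      rw [map_pow]; exact hfr ⟨y, hyP⟩⟩
    have hgrange : g.range = f.range := by
      have htop : ∀ c ∈ f.range, c ^ r = 1 := by rintro _ ⟨z, rfl⟩; exact hfr z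
      haveI : IsCyclic f.range := isCyclic_subgroup_units _
      refine le_antisymm ?_ ?_
      · rintro _ ⟨z, rfl⟩
        have hz : g z ^ r = 1 := by rw [hgap, ← map_pow]; exact z.2.2 _ hyr
        -- the `r`-th roots of unity form the range of `f`
        by_contra hne
        have hle : f.range ≤ rootsOfUnity r k := fun c hc => htop c hc
        have hcard : Nat.card (rootsOfUnity r k) ≤ r := card_rootsOfUnity k r
        have heq : f.range = rootsOfUnity r k :=
          Subgroup.eq_of_le_of_card_ge hle (hrange ▸ hcard)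
        exact hne (heq ▸ hz)
      · have hxy : β x y ∈ g.range := ⟨⟨x, hxP'⟩, rfl⟩
        intro c hc
        have hne : (⟨β x y, ⟨y, hyP⟩, rfl⟩ : f.range) ≠ 1 := fun h => hy (congrArg Subtype.val h)
        have := mem_zpowers_of_prime_card (p := r) hrange hne (g' := ⟨c, hc⟩)
        obtain ⟨i, hi⟩ := Subgroup.mem_zpowers_iff.mp this
        rw [show c = β x y ^ i from (congrArg Subtype.val hi).symm.trans (by simp)]
        exact g.range.zpow_mem hxy i
    have hker : g.ker.map (hβ.rad P').subtype = hβ.rad P := by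
      ext z
      constructor
      · rintro ⟨⟨w, hwP', hw⟩, hwy, rfl⟩
        have hwy : β w y = 1 := hwy
        refine ⟨((hmem w).mp hwP').1, fun u hu => ?_⟩
        -- `P` is generated by `P'` and `y`
        obtain ⟨i, hi⟩ : ∃ i : ℤ, β x u = β x y ^ i := by
          have hne : (⟨β x y, ⟨y, hyP⟩, rfl⟩ : f.range) ≠ 1 := fun h => hy (congrArg Subtype.val h)
          have := mem_zpowers_of_prime_card (p := r) hrange hne (g' := ⟨β x u, ⟨u, hu⟩, rfl⟩)
          obtain ⟨i, hi⟩ := Subgroup.mem_zpowers_iff.mp this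
          exact ⟨i, (congrArg Subtype.val hi).symm.trans (by simp)⟩
        have h1 : β w (u * (y ^ i)⁻¹) = 1 := hw _ ((hmem _).mpr
          ⟨P.mul_mem hu (P.inv_mem (P.zpow_mem hyP i)), by
            rw [map_mul, map_inv, map_zpow, hi, mul_inv_cancel]⟩)
        rwa [map_mul, map_inv, map_zpow, hwy, one_zpow, inv_one, mul_one] at h1
      · rintro ⟨hzP, hz⟩
        have hzP' : z ∈ P' := (hmem z).mpr ⟨hzP, by
          rw [hβ.swap z x, hz x hxP, inv_one]⟩
        exact ⟨⟨z, hzP', fun w hw => hz w ((hmem w).mp hw).1⟩, hz y hyP, rfl⟩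
    refine ⟨r * m, ?_⟩
    rw [hcardP, hm, Subgroup.card_eq_card_quotient_mul_card_subgroup g.ker,
      Nat.card_congr (QuotientGroup.quotientKerEquivRange g).toEquiv, hgrange, hrange,
      ← Subgroup.card_map_of_injective (K := g.ker) (hβ.rad P').subtype_injective, hker]
    ring

/-- The order is a square. -/
theorem exists_card_eq_sq [Finite M] : ∃ m : ℕ, Nat.card M = m ^ 2 := by
  obtain ⟨m, hm⟩ := hβ.exists_sq_mul_card_rad ⊤
  refine ⟨m, ?_⟩
  have : hβ.rad ⊤ = ⊥ := eq_bot_iff.mpr fun z hz => Subgroup.mem_bot.mpr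
    (hβ.nondeg z fun y => hz.2 y (Subgroup.mem_top y))
  rwa [this, Subgroup.card_bot, mul_one, Subgroup.card_top] at hm

end IsSymplectic

section Bounded

variable {M : Type*} [CommGroup M] [Finite M] {k : Type*} [Field k] {β : M →* M →* kˣ}

theorem pow_sub_one_lt {x ℓ : ℕ} (hx : 4 ≤ x) (hℓ : 2 ≤ ℓ) : (ℓ - 1) ^ 2 < x ^ (ℓ - 1) := by
  have h1 : ℓ - 1 < 2 ^ (ℓ - 1) := Nat.lt_two_pow_self
  calc (ℓ - 1) ^ 2 < (2 ^ (ℓ - 1)) ^ 2 := Nat.pow_lt_pow_left h1 (by norm_num)
    _ = 4 ^ (ℓ - 1) := by rw [← pow_mul, mul_comm, pow_mul]; norm_num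
    _ ≤ x ^ (ℓ - 1) := Nat.pow_le_pow_left hx _

theorem eq_one_of_pow_coprime {G : Type*} [Group G] [Finite G] {n : ℕ}
    (h : (Nat.card G).Coprime n) {x : G} (hx : x ^ n = 1) : x = 1 :=
  orderOf_eq_one_iff.mp (Nat.eq_one_of_dvd_coprimes h (orderOf_dvd_natCard x)
    (orderOf_dvd_of_pow_eq_one hx))

/-- If an element of order `ℓ` has at least `|M| / (ℓ-1)²` fixed points, a group of automorphisms
on which it is fixed-point-free acts trivially. -/
theorem eq_one_of_frobenius (hβ : IsSymplectic β) {ℓ : ℕ} (hℓ : ℓ.Prime) (h : MulAut M)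
    (hh : h ^ ℓ = 1) (hhβ : ∀ x y, β (h x) (h y) = β x y) {T : Type*} [CommGroup T] [Finite T]
    (θ : T →* MulAut M) (η : MulAut T) (hη : η ^ ℓ = 1) (hfpf : ∀ t, η t = t → t = 1)
    (hcompat : ∀ t, h * θ t = θ (η t) * h) (hθβ : ∀ t x y, β (θ t x) (θ t y) = β x y)
    (hTM : (Nat.card T).Coprime (Nat.card M)) (hℓM : (Nat.card M).Coprime ℓ)
    (hℓT : (Nat.card T).Coprime ℓ)
    (hbound : Nat.card M ≤ (ℓ - 1) ^ 2 * Nat.card {x : M // h x = x}) (t : T) : θ t = 1 := by
  classical
  haveI := Fact.mk hℓ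
  by_cases hT : ∀ u : T, u = 1
  · rw [hT t, map_one]
  haveI := Fintype.ofFinite T
  push Not at hT
  have hη1 : η ≠ 1 := fun h1 => hT.elim fun u hu => hu (hfpf u (by rw [h1]; rfl))
  -- the Frobenius group
  set π : MulAut T × MulAut M := (η, h) with hπ
  set Eg := Subgroup.zpowers π
  have hπℓ : π ^ ℓ = 1 := by rw [hπ, Prod.pow_mk, hη, hh]; rfl
  have hπ1 : π ≠ 1 := fun h1 => hη1 (congrArg Prod.fst h1)
  have hE : Nat.card Eg = ℓ := by rw [Nat.card_zpowers, orderOf_eq_prime hπℓ hπ1]
  haveI : Finite Eg := Nat.finite_of_card_ne_zero (by rw [hE]; exact hℓ.ne_zero)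
  let ψ : Eg →* MulAut T := (MonoidHom.fst _ _).comp Eg.subtype
  let χ : Eg →* MulAut M := (MonoidHom.snd _ _).comp Eg.subtype
  have hcomp' : ∀ e : Eg, ∀ u, χ e * θ u = θ (ψ e u) * χ e := by
    intro e
    let S : Subgroup (MulAut T × MulAut M) :=
      { carrier := {a | ∀ u, a.2 * θ u = θ (a.1 u) * a.2}
        one_mem' := fun u => by simp
        mul_mem' := fun {a b} ha hb u => by
          show a.2 * b.2 * θ u = θ (a.1 (b.1 u)) * (a.2 * b.2)
          rw [mul_assoc, hb, ← mul_assoc, ha, mul_assoc]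
        inv_mem' := fun {a} ha u => by
          show a.2⁻¹ * θ u = θ (a.1⁻¹ u) * a.2⁻¹
          have h2 := ha (a.1⁻¹ u)
          rw [MulAut.apply_inv_self] at h2
          rw [eq_mul_inv_iff_mul_eq, mul_assoc, ← h2, inv_mul_cancel_left] }
    exact (Subgroup.zpowers_le (H := S)).mpr (show π ∈ S from hcompat) e.2
  let Gs := T ⋊[ψ] Eg
  let φ : Gs →* MulAut M := SemidirectProduct.lift θ χ fun e => MonoidHom.ext fun u => by
    show θ (ψ e u) = χ e * θ u * (χ e)⁻¹
    rw [hcomp', mul_inv_cancel_right]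
  haveI : Finite Gs := Finite.of_equiv _ SemidirectProduct.equivProd.symm
  set U : Subgroup Gs := (SemidirectProduct.inl : T →* Gs).range
  set E : Subgroup Gs := (SemidirectProduct.inr : Eg →* Gs).range
  haveI : U.Normal := by
    show (SemidirectProduct.inl : T →* Gs).range.Normal
    rw [SemidirectProduct.range_inl_eq_ker_rightHom]
    exact MonoidHom.normal_ker _
  have hUE : U ⊓ E = ⊥ := by
    rw [eq_bot_iff]
    rintro _ ⟨⟨u, rfl⟩, e, he⟩
    have h2 := congrArg SemidirectProduct.left he
    simp only [SemidirectProduct.left_inr, SemidirectProduct.left_inl] at h2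
    rw [Subgroup.mem_bot, ← h2, map_one]
  have htop : U ⊔ E = ⊤ := eq_top_iff.mpr fun a _ => by
    rw [← SemidirectProduct.inl_left_mul_inr_right a]
    exact Subgroup.mul_mem_sup ⟨_, rfl⟩ ⟨_, rfl⟩
  have hfr : ∀ e ∈ E, e ≠ 1 → ∀ u ∈ U, e * u = u * e → u = 1 := by
    rintro _ ⟨e, rfl⟩ he1 _ ⟨u, rfl⟩ hc
    have h2 : (SemidirectProduct.inr e * SemidirectProduct.inl u : T ⋊[ψ] Eg).left =
        (SemidirectProduct.inl u * SemidirectProduct.inr e : T ⋊[ψ] Eg).left :=
      congrArg SemidirectProduct.left hc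
    simp only [SemidirectProduct.mul_left, SemidirectProduct.left_inr, SemidirectProduct.left_inl,
      SemidirectProduct.right_inr, SemidirectProduct.right_inl, map_one, one_mul, mul_one] at h2
    have hgen : (⟨π, Subgroup.mem_zpowers π⟩ : Eg) ∈ Subgroup.zpowers e :=
      mem_zpowers_of_prime_card (p := ℓ) hE (fun h3 => he1 (by rw [h3, map_one]))
    have h3 : Subgroup.zpowers e ≤ (MulAction.stabilizer (MulAut T) u).comap ψ :=
      Subgroup.zpowers_le.mpr h2
    rw [hfpf u (h3 hgen), map_one]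
  have hcard : Nat.card Gs = Nat.card T * ℓ := by rw [SemidirectProduct.card, hE]
  have hW := Wielandt.card_fixedSub_frobenius hUE htop hfr (inferInstance : Group.IsSolvable M)
    (by rw [hcard]; exact Nat.Coprime.mul_left hTM hℓM.symm) φ
  have hEcard : Nat.card E = ℓ :=
    (Nat.card_congr (MonoidHom.ofInjective SemidirectProduct.inr_injective).toEquiv).symm.trans hE
  rw [hEcard] at hW
  -- the averaging map
  let N : Subgroup M :=
    { carrier := {x | ∀ u, θ u x = x}
      one_mem' := fun u => map_one _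
      mul_mem' := fun {a b} ha hb u => by rw [map_mul, ha, hb]
      inv_mem' := fun {a} ha u => by rw [map_inv, ha] }
  let C : Subgroup M :=
    { carrier := {x | h x = x}
      one_mem' := map_one h
      mul_mem' := fun {a b} (ha : h a = a) (hb : h b = b) => by
        show h (a * b) = a * b
        rw [map_mul, ha, hb]
      inv_mem' := fun {a} (ha : h a = a) => by show h a⁻¹ = a⁻¹; rw [map_inv, ha] }
  have hN : Wielandt.fixedSub φ U = N := by
    ext x
    constructor
    · intro hx u
      have h2 := hx _ ⟨u, rfl⟩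
      rwa [SemidirectProduct.lift_inl] at h2
    · rintro hx _ ⟨u, rfl⟩
      rw [SemidirectProduct.lift_inl]
      exact hx u
  have hC : Wielandt.fixedSub φ E = C := by
    ext x
    constructor
    · intro hx
      have h2 := hx _ ⟨⟨π, Subgroup.mem_zpowers π⟩, rfl⟩
      rwa [SemidirectProduct.lift_inr] at h2
    · rintro hx _ ⟨e, rfl⟩
      rw [SemidirectProduct.lift_inr]
      have h3 : Eg ≤ (MulAction.stabilizer (MulAut M) x).comap (MonoidHom.snd _ _) :=
        Subgroup.zpowers_le.mpr hx
      exact h3 e.2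
  have hG : Wielandt.fixedSub φ ⊤ = C ⊓ N := by
    refine le_antisymm (le_inf ?_ ?_) fun x hx g _ => ?_
    · rw [← hC]; exact fun x hx g _ => hx g (Subgroup.mem_top g)
    · rw [← hN]; exact fun x hx g _ => hx g (Subgroup.mem_top g)
    · have h1 : x ∈ Wielandt.fixedSub φ U := hN ▸ hx.2
      have h2 : x ∈ Wielandt.fixedSub φ E := hC ▸ hx.1
      have h3 : (⊤ : Subgroup Gs) ≤ (MulAction.stabilizer (MulAut M) x).comap φ := by
        rw [← htop]
        exact sup_le (fun a ha => h1 a ha) fun a ha => h2 a ha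
      exact h3 (Subgroup.mem_top g)
  rw [hN, hC, hG] at hW
  let e : M →* M :=
    { toFun := fun x => ∏ u : T, θ u x
      map_one' := by simp
      map_mul' := fun x y => by simp [map_mul, Finset.prod_mul_distrib] }
  have heθ : ∀ u x, θ u (e x) = e x := fun u x => by
    show θ u (∏ v : T, θ v x) = ∏ v : T, θ v x
    rw [map_prod]
    exact Fintype.prod_equiv (Equiv.mulLeft u) _ _ fun v => by
      rw [Equiv.coe_mulLeft, map_mul, MulAut.mul_apply]
  have heN : ∀ x ∈ N, e x = x ^ Nat.card T := fun x hx => by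
    show ∏ v : T, θ v x = _
    rw [Finset.prod_congr rfl fun v _ => hx v, Finset.prod_const, Finset.card_univ,
      Nat.card_eq_fintype_card]
  have heh : ∀ x, h (e x) = e (h x) := fun x => by
    show h (∏ v : T, θ v x) = ∏ v : T, θ v (h x)
    rw [map_prod]
    refine Fintype.prod_equiv η.toEquiv _ _ fun v => ?_
    have h1 := MulEquiv.ext_iff.mp (hcompat v) x
    simp only [MulAut.mul_apply] at h1
    exact h1
  -- `N` is orthogonal to the kernel of the averaging map
  have hcardN : (Nat.card M).Coprime (Nat.card T) := hTM.symm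
  have horth : ∀ z, e z = 1 → ∀ n ∈ N, β z n = 1 := by
    intro z hz n hn
    have h1 : β z n ^ Nat.card T = 1 := by
      have h2 : β (e z) n = 1 := by rw [hz, map_one]; rfl
      rw [show e z = ∏ v : T, θ v z from rfl, map_prod, MonoidHom.finsetProd_apply] at h2
      rw [Nat.card_eq_fintype_card, ← Finset.card_univ, ← Finset.prod_const, ← h2]
      refine Finset.prod_congr rfl fun v _ => ?_
      conv_rhs => rw [show n = θ v n from (hn v).symm]
      rw [hθβ]
    have h3 : β z n ^ Nat.card M = 1 := by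
      rw [← map_pow, pow_card_eq_one', map_one]
    have := pow_gcd_eq_one.mpr ⟨h3, h1⟩
    rwa [hcardN, pow_one] at this
  -- the fixed points in the kernel
  let C' : Subgroup M := C ⊓ e.ker
  have hCC' : Nat.card C = Nat.card C' * Nat.card (C ⊓ N : Subgroup M) := by
    let ec : C →* M := e.comp C.subtype
    have hr : ec.range = C ⊓ N := by
      refine le_antisymm ?_ fun x hx => ?_
      · rintro _ ⟨x, rfl⟩
        refine ⟨?_, fun u => heθ u x⟩
        show h (e x) = e x
        rw [heh, show h x = x from x.2]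
      · obtain ⟨m, hm⟩ := exists_pow_eq_self_of_coprime (x := x) (n := Nat.card T)
          ((hcardN.coprime_dvd_left (orderOf_dvd_natCard x)).symm)
        refine ⟨⟨x ^ m, C.pow_mem hx.1 m⟩, ?_⟩
        show e (x ^ m) = x
        rw [heN _ (N.pow_mem hx.2 m), ← pow_mul, mul_comm, pow_mul, hm]
    have hk : ec.ker.map C.subtype = C' := by
      ext x
      constructor
      · rintro ⟨y, hy, rfl⟩; exact ⟨y.2, hy⟩
      · rintro ⟨h1, h2⟩; exact ⟨⟨x, h1⟩, h2, rfl⟩
    rw [Subgroup.card_eq_card_quotient_mul_card_subgroup ec.ker,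
      Nat.card_congr (QuotientGroup.quotientKerEquivRange ec).toEquiv, hr,
      ← Subgroup.card_map_of_injective (K := ec.ker) C.subtype_injective, hk, mul_comm]
  have hpos : 0 < Nat.card (C ⊓ N : Subgroup M) := Nat.card_pos
  rw [hCC', mul_pow, mul_comm (Nat.card C' ^ ℓ), mul_assoc] at hW
  have hMeq : Nat.card M = Nat.card C' ^ ℓ * Nat.card N :=
    Nat.eq_of_mul_eq_mul_left (pow_pos hpos ℓ) hW
  by_cases hcyc : IsCyclic C'
  · -- a cyclic fixed part is in the radical
    have hC'bot : C' = ⊥ := by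
      obtain ⟨⟨x, hx⟩, hgen⟩ := hcyc.exists_generator
      have hxe : e x = 1 := hx.2
      have hxh : h x = x := hx.1
      have hxC' : ∀ y ∈ C', β x y = 1 := by
        intro y hy
        obtain ⟨i, hi⟩ := Subgroup.mem_zpowers_iff.mp (hgen ⟨y, hy⟩)
        rw [← show x ^ i = y by simpa using congrArg Subtype.val hi, map_zpow, hβ.alt, one_zpow]
      have hx1 : x = 1 := by
        refine hβ.nondeg x fun m => ?_
        obtain ⟨j, hj⟩ := exists_pow_eq_self_of_coprime (x := m) (n := Nat.card T)
          ((hcardN.coprime_dvd_left (orderOf_dvd_natCard m)).symm)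
        rw [← hj, map_pow]
        suffices hmain : β x (m ^ Nat.card T) = 1 by rw [hmain, one_pow]
        set m' := m ^ Nat.card T * (e m)⁻¹ with hm'
        have hm'e : e m' = 1 := by
          rw [hm', map_mul, map_pow, map_inv, heN (e m) fun u => heθ u m, mul_inv_cancel]
        have hfix : ∀ i : ℕ, β x ((h ^ i) m') = β x m' := by
          intro i
          induction i with
          | zero => rfl
          | succ i ih =>
            rw [pow_succ', MulAut.mul_apply]
            conv_lhs => rw [← hxh]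
            rw [hhβ, ih]
        have hsumC' : (∏ i ∈ Finset.range ℓ, (h ^ i) m') ∈ C' := by
          refine ⟨?_, ?_⟩
          · show h _ = _
            have h0 : (h ^ ℓ) m' = (h ^ 0) m' := by rw [hh, pow_zero]
            have hs := Finset.prod_range_succ' (fun i => (h ^ i) m') ℓ
            rw [Finset.prod_range_succ, h0] at hs
            rw [map_prod]
            refine (Finset.prod_congr rfl fun i _ => ?_).trans (mul_right_cancel hs).symm
            rw [pow_succ', MulAut.mul_apply]
          · show e _ = 1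
            rw [map_prod]
            refine Finset.prod_eq_one fun i _ => ?_
            have hei : ∀ i : ℕ, e ((h ^ i) m') = 1 := by
              intro i
              induction i with
              | zero => exact hm'e
              | succ i ih => rw [pow_succ', MulAut.mul_apply, ← heh, ih, map_one]
            exact hei i
        have h1 : β x m' ^ ℓ = 1 := by
          have h2 := hxC' _ hsumC'
          rw [map_prod, Finset.prod_congr rfl fun i _ => hfix i, Finset.prod_const,
            Finset.card_range] at h2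
          exact h2
        have h3 : β x m' ^ Nat.card M = 1 := by rw [← map_pow, pow_card_eq_one', map_one]
        have h4 := pow_gcd_eq_one.mpr ⟨h3, h1⟩
        rw [hℓM, pow_one] at h4
        rw [show m ^ Nat.card T = m' * e m by rw [hm', inv_mul_cancel_right], map_mul, h4,
          horth x hxe (e m) fun u => heθ u m, one_mul]
      rw [eq_bot_iff]
      intro y hy
      obtain ⟨i, hi⟩ := Subgroup.mem_zpowers_iff.mp (hgen ⟨y, hy⟩)
      rw [Subgroup.mem_bot, ← show x ^ i = y by simpa using congrArg Subtype.val hi, hx1, one_zpow]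
    have hNtop : N = ⊤ := Subgroup.eq_top_of_card_eq N (by
      rw [hMeq, hC'bot, Subgroup.card_bot, one_pow, one_mul])
    exact MulEquiv.ext fun x => (hNtop ▸ Subgroup.mem_top x : x ∈ N) t
  · exfalso
    have h4 : 4 ≤ Nat.card C' := by
      by_contra hlt
      push Not at hlt
      have hpos' : 0 < Nat.card C' := Nat.card_pos
      rcases (by omega : Nat.card C' = 1 ∨ Nat.card C' = 2 ∨ Nat.card C' = 3) with h1 | h1 | h1
      · haveI := (Nat.card_eq_one_iff_unique.mp h1).1
        exact hcyc isCyclic_of_subsingleton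
      · haveI := Fact.mk Nat.prime_two
        exact hcyc (isCyclic_of_prime_card h1)
      · haveI := Fact.mk Nat.prime_three
        exact hcyc (isCyclic_of_prime_card h1)
    have hNpos : Nat.card (C ⊓ N : Subgroup M) ≤ Nat.card N :=
      Nat.le_of_dvd Nat.card_pos (Subgroup.card_dvd_of_le inf_le_right)
    have hb : Nat.card M ≤ (ℓ - 1) ^ 2 * (Nat.card C' * Nat.card N) := by
      refine hbound.trans (Nat.mul_le_mul_left _ ?_)
      calc Nat.card {x : M // h x = x} = Nat.card C := rfl
        _ ≤ _ := by rw [hCC']; exact Nat.mul_le_mul_left _ hNpos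
    have hlt := pow_sub_one_lt h4 hℓ.two_le
    rw [hMeq] at hb
    have hℓ' : ℓ = ℓ - 1 + 1 := (Nat.succ_pred_eq_of_pos hℓ.pos).symm
    conv_lhs at hb => rw [hℓ', pow_succ]
    have hCN : 0 < Nat.card C' * Nat.card N := Nat.mul_pos Nat.card_pos Nat.card_pos
    rw [mul_assoc] at hb
    exact absurd (Nat.le_of_mul_le_mul_right hb hCN) (not_le.mpr hlt)

/-- If a fixed-point-free automorphism of order `ℓ` has `|M| ≤ (ℓ-1)²`, its centraliser among
automorphisms of order prime to `ℓ` preserving the pairing is trivial. -/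
theorem eq_one_of_commute_fpf (hβ : IsSymplectic β) {r ℓ : ℕ} (hr : r.Prime) (hℓ : ℓ.Prime)
    (hM : IsPGroup r M) (h : MulAut M) (hh : h ^ ℓ = 1) (hhβ : ∀ x y, β (h x) (h y) = β x y)
    (hfpf : ∀ x, h x = x → x = 1) (hbound : Nat.card M ≤ (ℓ - 1) ^ 2) (x : MulAut M)
    (hxh : x * h = h * x) (hxβ : ∀ a b, β (x a) (x b) = β a b) {N : ℕ} (hN : N.Coprime ℓ)
    (hxN : x ^ N = 1) : x = 1 := by
  classical
  haveI := Fact.mk hr
  haveI := Fact.mk hℓ
  rcases subsingleton_or_nontrivial M with hM1 | hM1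
  · exact MulEquiv.ext fun a => Subsingleton.elim _ _
  obtain ⟨e, he⟩ := IsPGroup.iff_card.mp hM
  obtain ⟨m, hm⟩ := hβ.exists_card_eq_sq
  obtain ⟨n, hne, hmn⟩ : ∃ n ≤ e, m = r ^ n := (Nat.dvd_prime_pow hr).mp (by
    rw [← he, hm]; exact dvd_pow_self m (by norm_num))
  have hcard : Nat.card M = r ^ (2 * n) := by rw [hm, hmn, ← pow_mul, mul_comm n]
  have hn0 : 0 < n := by
    rcases Nat.eq_zero_or_pos n with h0 | h0
    · exfalso
      have := Finite.one_lt_card (α := M)
      rw [hcard, h0] at this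
      simp at this
    · exact h0
  have hrn1 : 1 < r ^ n := Nat.one_lt_pow hn0.ne' hr.one_lt
  have hlt : r ^ n < ℓ := by
    have h1 : (r ^ n) ^ 2 ≤ (ℓ - 1) ^ 2 := by rw [← pow_mul, mul_comm, ← hcard]; exact hbound
    have h2 := (Nat.pow_le_pow_iff_left (by norm_num)).mp h1
    have := hℓ.two_le
    omega
  -- an invariant subgroup has order `1` modulo `ℓ`
  have hmod : ∀ H : Subgroup M, (∀ a ∈ H, h a ∈ H) → Nat.card H ≡ 1 [MOD ℓ] := by
    intro H hH
    let S : Subgroup (MulAut M) :=
      { carrier := {a | ∀ z ∈ H, a z ∈ H ∧ a⁻¹ z ∈ H}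
        one_mem' := fun z hz => ⟨hz, by rw [inv_one]; exact hz⟩
        mul_mem' := fun {a b} ha hb z hz => ⟨(ha _ (hb z hz).1).1, by
          rw [mul_inv_rev]; exact (hb _ (ha z hz).2).2⟩
        inv_mem' := fun {a} ha z hz => ⟨(ha z hz).2, by rw [inv_inv]; exact (ha z hz).1⟩ }
    have hpow : ∀ i : ℕ, ∀ z ∈ H, (h ^ i) z ∈ H := by
      intro i
      induction i with
      | zero => intro z hz; exact hz
      | succ i ih => intro z hz; rw [pow_succ', MulAut.mul_apply]; exact hH _ (ih z hz)
    have hinv : h⁻¹ = h ^ (ℓ - 1) := inv_eq_of_mul_eq_one_left (by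
      rw [← pow_succ, Nat.sub_add_cancel hℓ.one_le, hh])
    have hle : Subgroup.zpowers h ≤ S := Subgroup.zpowers_le.mpr fun z hz =>
      ⟨hH z hz, by rw [hinv]; exact hpow _ z hz⟩
    letI : MulAction (Subgroup.zpowers h) H :=
      { smul := fun a z => ⟨(a : MulAut M) z, (hle a.2 z z.2).1⟩
        one_smul := fun z => Subtype.ext rfl
        mul_smul := fun a b z => Subtype.ext rfl }
    have hP : IsPGroup ℓ (Subgroup.zpowers h) := fun a => ⟨1, by
      obtain ⟨i, hi⟩ := Subgroup.mem_zpowers_iff.mp a.2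
      refine Subtype.ext ?_
      rw [pow_one, SubmonoidClass.coe_pow, ← hi, ← zpow_natCast, zpow_comm, zpow_natCast, hh,
        one_zpow]
      rfl⟩
    haveI : Finite (Subgroup.zpowers h) :=
      (IsOfFinOrder.finite_zpowers (isOfFinOrder_iff_pow_eq_one.mpr ⟨ℓ, hℓ.pos, hh⟩)).to_subtype
    have h1 := hP.card_modEq_card_fixedPoints H
    have h2 : Nat.card (MulAction.fixedPoints (Subgroup.zpowers h) H) = 1 := by
      refine Nat.card_eq_one_iff_unique.mpr ⟨⟨fun a b => ?_⟩, ⟨⟨1, fun a => Subtype.ext (map_one _)⟩⟩⟩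
      have key : ∀ c : MulAction.fixedPoints (Subgroup.zpowers h) H, c.1 = 1 := fun c =>
        Subtype.ext (hfpf _ (congrArg Subtype.val (c.2 ⟨h, Subgroup.mem_zpowers h⟩)))
      exact Subtype.ext ((key a).trans (key b).symm)
    rwa [h2] at h1
  have hdvd : ℓ ∣ r ^ (2 * n) - 1 := by
    have h1 := hmod ⊤ fun a _ => Subgroup.mem_top _
    rw [Subgroup.card_top, hcard] at h1
    exact (Nat.modEq_iff_dvd' (Nat.one_le_pow _ _ hr.pos)).mp h1.symm
  have hℓeq : ℓ = r ^ n + 1 := by
    have h1 : r ^ (2 * n) - 1 = (r ^ n + 1) * (r ^ n - 1) := by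
      rw [show r ^ (2 * n) = r ^ n * r ^ n by rw [← pow_add]; ring_nf, Nat.mul_sub, mul_one, add_mul,
        one_mul]
      omega
    rw [h1] at hdvd
    rcases (Nat.Prime.dvd_mul hℓ).mp hdvd with h2 | h2
    · have := Nat.le_of_dvd (by omega) h2
      omega
    · exact absurd (Nat.le_of_dvd (by omega) h2) (by omega)
  -- irreducibility
  have hirr : ∀ H : Subgroup M, (∀ a ∈ H, h a ∈ H) → H = ⊥ ∨ H = ⊤ := by
    intro H hH
    obtain ⟨a, ha⟩ := IsPGroup.iff_card.mp (hM.to_subgroup H)
    have h1 := hmod H hH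
    rw [ha] at h1
    have ha2 : a ≤ 2 * n := by
      have := Subgroup.card_subgroup_dvd_card H
      rw [ha, hcard] at this
      exact (Nat.pow_dvd_pow_iff_le_right hr.one_lt).mp this
    rcases le_or_gt a n with han | han
    · left
      have h2 : r ^ a < ℓ := lt_of_le_of_lt (Nat.pow_le_pow_right hr.pos han) hlt
      have h3 : r ^ a = 1 := Nat.ModEq.eq_of_lt_of_lt h1 h2 hℓ.one_lt
      exact Subgroup.eq_bot_of_card_eq H (by rw [ha, h3])
    · right
      have h2 : ℓ ∣ r ^ (a - n) + 1 := by
        have e1 : r ^ a + r ^ (a - n) ≡ 0 [MOD ℓ] := by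
          rw [Nat.modEq_zero_iff_dvd, show r ^ a + r ^ (a - n) = r ^ (a - n) * (r ^ n + 1) by
            rw [mul_add, mul_one, ← pow_add, Nat.sub_add_cancel han.le], ← hℓeq]
          exact dvd_mul_left ℓ _
        have e2 : 1 + r ^ (a - n) ≡ 0 [MOD ℓ] := ((h1.add_right _).symm).trans e1
        rw [add_comm]
        exact Nat.modEq_zero_iff_dvd.mp e2
      have h3 := Nat.le_of_dvd (Nat.succ_pos _) h2
      have h4 : n ≤ a - n := (Nat.pow_le_pow_iff_right hr.one_lt).mp (by omega)
      exact Subgroup.eq_top_of_card_eq H (by rw [ha, hcard, show a = 2 * n by omega])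
  have hexp : ∀ a : M, a ^ r = 1 := by
    rcases hirr (powMonoidHom r : M →* M).ker (fun a ha => by
      rw [MonoidHom.mem_ker, powMonoidHom_apply] at ha ⊢
      rw [← map_pow, ha, map_one]) with h1 | h1
    · exfalso
      have hd : r ∣ Nat.card M := by rw [hcard]; exact dvd_pow_self r (by omega)
      obtain ⟨a, ha⟩ := exists_prime_orderOf_dvd_card' (G := M) r hd
      have : a ∈ (powMonoidHom r : M →* M).ker := by
        rw [MonoidHom.mem_ker, powMonoidHom_apply, ← ha, pow_orderOf_eq_one]
      rw [h1, Subgroup.mem_bot] at this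
      rw [this, orderOf_one] at ha
      exact hr.ne_one ha.symm
    · intro a
      have : a ∈ (powMonoidHom r : M →* M).ker := h1 ▸ Subgroup.mem_top a
      exact this
  -- the algebra generated by `h`
  let A := Additive M
  let toEnd : MulAut M → AddMonoid.End A := fun a => MonoidHom.toAdditive a.toMonoidHom
  have toEnd_apply : ∀ a (v : M), toEnd a (Additive.ofMul v) = Additive.ofMul (a v) :=
    fun _ _ => rfl
  set Y := toEnd h with hY
  set X := toEnd x with hX
  haveI : Nontrivial (AddMonoid.End A) := by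
    obtain ⟨v, hv⟩ := exists_ne (1 : M)
    exact ⟨⟨1, 0, fun h1 => hv (Additive.ofMul.injective (DFunLike.congr_fun h1 (Additive.ofMul v)))⟩⟩
  haveI : CharP (AddMonoid.End A) r := (CharP.charP_iff_prime_eq_zero hr).mpr
    (AddMonoidHom.ext fun v => by
      show ((r : AddMonoid.End A) : A →+ A) v = 0
      rw [AddMonoid.End.natCast_apply]
      exact congrArg Additive.ofMul (hexp v.toMul))
  set B := Subring.closure ({Y} : Set (AddMonoid.End A))
  have hBcomm : ∀ a ∈ B, ∀ b ∈ B, Commute a b := by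
    intro a ha b hb
    have h1 : B ≤ Subring.centralizer {Y} := Subring.closure_le.mpr (by
      rintro _ rfl; exact Subring.mem_centralizer_iff.mpr fun c hc => by rw [hc])
    have h2 : B ≤ Subring.centralizer (B : Set _) := Subring.closure_le.mpr (by
      rintro _ rfl
      refine Subring.mem_centralizer_iff.mpr fun c hc => ?_
      exact (Subring.mem_centralizer_iff.mp (h1 hc) _ rfl).symm)
    exact Subring.mem_centralizer_iff.mp (h2 hb) a ha
  let P : AddMonoid.End A → Prop := fun z => ∀ a b : A,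
    β (z a).toMul b.toMul = β a.toMul ((z ^ r ^ n) b).toMul
  have hPB : ∀ z ∈ B, P z := by
    intro z hz
    induction hz using Subring.closure_induction with
    | mem z hz =>
      obtain rfl : z = Y := hz
      intro a b
      have hpow : ∀ i : ℕ, ∀ v : M, (Y ^ i) (Additive.ofMul v) = Additive.ofMul ((h ^ i) v) := by
        intro i
        induction i with
        | zero => intro v; rfl
        | succ i ih =>
          intro v
          rw [pow_succ', pow_succ', MulAut.mul_apply, AddMonoid.End.coe_mul, Function.comp_apply,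
            ih, hY, toEnd_apply]
      rw [← ofMul_toMul b, hpow, ← ofMul_toMul a, hY, toEnd_apply]
      simp only [toMul_ofMul]
      conv_lhs => rw [show b.toMul = h ((h ^ r ^ n) b.toMul) by
        rw [← MulAut.mul_apply, ← pow_succ', ← hℓeq, hh]; rfl]
      rw [hhβ]
    | zero =>
      intro a b
      rw [zero_pow (pow_pos hr.pos n).ne', AddMonoid.End.zero_apply, AddMonoid.End.zero_apply,
        toMul_zero, map_one, map_one, MonoidHom.one_apply]
    | one => intro a b; rw [one_pow]; rfl
    | add z w hzB hwB hz hw =>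
      intro a b
      rw [add_pow_char_pow_of_commute (p := r) (n := n) (h := hBcomm z hzB w hwB)]
      show β (z a + w a).toMul b.toMul =
        β a.toMul ((z ^ r ^ n) b + (w ^ r ^ n) b).toMul
      rw [toMul_add, toMul_add, map_mul, map_mul, MonoidHom.mul_apply, hz, hw]
    | neg z hzB hz =>
      intro a b
      have hzero : β ((z + -z) a).toMul b.toMul = β a.toMul (((z + -z) ^ r ^ n) b).toMul := by
        rw [add_neg_cancel, zero_pow (pow_pos hr.pos n).ne', AddMonoid.End.zero_apply,
          AddMonoid.End.zero_apply, toMul_zero, map_one, map_one, MonoidHom.one_apply]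
      rw [add_pow_char_pow_of_commute (p := r) (n := n) (h := hBcomm z hzB _ (B.neg_mem hzB))] at hzero
      change β (z a + (-z) a).toMul b.toMul =
        β a.toMul ((z ^ r ^ n) b + ((-z) ^ r ^ n) b).toMul at hzero
      rw [toMul_add, toMul_add, map_mul, map_mul, MonoidHom.mul_apply, hz a b] at hzero
      exact mul_left_cancel hzero
    | mul z w hzB hwB hz hw =>
      intro a b
      rw [(hBcomm z hzB w hwB).mul_pow, AddMonoid.End.coe_mul, AddMonoid.End.coe_mul,
        Function.comp_apply, Function.comp_apply, hz, hw]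
      congr 2
      exact DFunLike.congr_fun ((hBcomm w hwB z hzB).pow_pow (r ^ n) (r ^ n)).eq b
  -- `x` lies in the algebra
  obtain ⟨v₀, hv₀⟩ := exists_ne (1 : M)
  let O : Subgroup M :=
    { carrier := {v | ∃ z ∈ B, z (Additive.ofMul v₀) = Additive.ofMul v}
      one_mem' := ⟨0, B.zero_mem, rfl⟩
      mul_mem' := fun {a b} ⟨z, hz, hza⟩ ⟨w, hw, hwb⟩ => ⟨z + w, B.add_mem hz hw, by
        show z _ + w _ = _
        rw [hza, hwb]; rfl⟩
      inv_mem' := fun {a} ⟨z, hz, hza⟩ => ⟨-z, B.neg_mem hz, by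
        show -(z (Additive.ofMul v₀)) = _
        rw [hza]; rfl⟩ }
  have hOtop : O = ⊤ := by
    refine (hirr O fun a ⟨z, hz, hza⟩ => ⟨Y * z, B.mul_mem (Subring.subset_closure rfl) hz, ?_⟩
      ).resolve_left fun h1 => hv₀ ?_
    · rw [AddMonoid.End.coe_mul, Function.comp_apply, hza, hY, toEnd_apply]
    · have : v₀ ∈ O := ⟨1, B.one_mem, rfl⟩
      rwa [h1, Subgroup.mem_bot] at this
  obtain ⟨z, hzB, hz⟩ : ∃ z ∈ B, z (Additive.ofMul v₀) = Additive.ofMul (x v₀) :=
    (hOtop ▸ Subgroup.mem_top (x v₀) : x v₀ ∈ O)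
  have hXB : ∀ w ∈ B, Commute w X := by
    intro w hw
    have h1 : B ≤ Subring.centralizer {X} := Subring.closure_le.mpr (by
      rintro _ rfl
      refine Subring.mem_centralizer_iff.mpr ?_
      rintro _ rfl
      refine AddMonoidHom.ext fun v => ?_
      exact congrArg Additive.ofMul (MulEquiv.ext_iff.mp hxh v.toMul))
    exact (Subring.mem_centralizer_iff.mp (h1 hw) X rfl).symm
  have hXz : X = z := by
    refine AddMonoidHom.ext fun v => ?_
    obtain ⟨w, hw, hwv⟩ := (hOtop ▸ Subgroup.mem_top v.toMul : v.toMul ∈ O)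
    rw [ofMul_toMul] at hwv
    rw [← hwv]
    have e1 := DFunLike.congr_fun (hXB w hw).eq (Additive.ofMul v₀)
    have e2 := DFunLike.congr_fun (hBcomm w hw z hzB).eq (Additive.ofMul v₀)
    rw [AddMonoid.End.coe_mul, AddMonoid.End.coe_mul, Function.comp_apply, Function.comp_apply] at e1 e2
    exact e1.symm.trans ((congrArg w (hz.trans (toEnd_apply x v₀).symm).symm).trans e2)
  have hPx := hPB z hzB
  rw [← hXz] at hPx
  have hXpow : ∀ i : ℕ, ∀ v : M, (X ^ i) (Additive.ofMul v) = Additive.ofMul ((x ^ i) v) := by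
    intro i
    induction i with
    | zero => intro v; rfl
    | succ i ih =>
      intro v
      rw [pow_succ', pow_succ', MulAut.mul_apply, AddMonoid.End.coe_mul, Function.comp_apply,
        ih, hX, toEnd_apply]
  have hxℓ : x ^ ℓ = 1 := by
    refine MulEquiv.ext fun b => ?_
    have h1 : ∀ a, β a ((x ^ ℓ) b * b⁻¹) = 1 := fun a => by
      have h2 := hPx (Additive.ofMul a) (Additive.ofMul (x b))
      rw [hXpow, hX, toEnd_apply] at h2
      simp only [toMul_ofMul] at h2
      rw [hxβ, ← MulAut.mul_apply, ← pow_succ, ← hℓeq] at h2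
      rw [map_mul, map_inv, ← h2, mul_inv_cancel]
    have h3 : (x ^ ℓ) b * b⁻¹ = 1 := hβ.nondeg _ fun a => by rw [hβ.swap, h1, inv_one]
    exact mul_inv_eq_one.mp h3
  have := pow_gcd_eq_one.mpr ⟨hxN, hxℓ⟩
  rwa [hN, pow_one] at this

end Bounded

end Cfsg.Agent.Lib.FpfPq
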