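import Cfsg.Agent.Lib.FpfSymThree.Weights
import Cfsg.Agent.Lib.HallHigmanOdd.CentralizerBound
import Cfsg.Agent.Lib.FpfPq.Pairing

/-!
# A class two module with a fixed-point-free element of prime order

A group `F` with scalar commutators is represented on `U`, an automorphism `s` of prime order `ℓ`
is induced by `g` with `1 + g + ⋯ + g^(ℓ-1) = 0`.  Then `|F/X| ≤ (ℓ-1)² |C_{F/X}(s)|`, where `X`
is the radical of the commutator pairing.
-/

set_option autoImplicit false

namespace Cfsg.Agent.Lib.FpfPq

open Module Polynomial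
open Cfsg.Agent.Lib
open scoped commutatorElement

variable {F : Type*} [Group F] {k U : Type*} [Field k] [AddCommGroup U] [Module k U]

theorem ne_zero_rep [Nontrivial U] (R : F →* Module.End k U) (x : F) : R x ≠ 0 := fun h => by
  have h1 : R x * R x⁻¹ = 1 := by rw [← map_mul, mul_inv_cancel, map_one]
  rw [h, zero_mul] at h1
  exact zero_ne_one h1

theorem ne_zero_rep_apply (R : F →* Module.End k U) (x : F) {v : U} (hv : v ≠ 0) : R x v ≠ 0 :=
  fun h => hv (by
    have h1 := congrArg (R x⁻¹) h
    rwa [← Module.End.mul_apply, ← map_mul, inv_mul_cancel, map_one, Module.End.one_apply,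
      map_zero] at h1)

theorem smul_one_injective [Nontrivial U] {a b : k}
    (h : a • (1 : Module.End k U) = b • (1 : Module.End k U)) : a = b :=
  smul_left_injective k (one_ne_zero (α := Module.End k U)) h

/-- The radical of the commutator pairing is a normal subgroup with abelian quotient; the pairing
on the quotient is symplectic. -/
theorem exists_pairing [Nontrivial U] (R : F →* Module.End k U)
    (hcomm : ∀ x y : F, ∃ c : k, R ⁅x, y⁆ = c • 1) (X : Subgroup F) [X.Normal]
    (hX : ∀ x : F, x ∈ X ↔ ∀ y : F, R ⁅x, y⁆ = 1) :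
    ∃ hc : ∀ a b : F ⧸ X, a * b = b * a,
      letI : CommGroup (F ⧸ X) := { (inferInstance : Group (F ⧸ X)) with mul_comm := hc }
      ∃ β : (F ⧸ X) →* (F ⧸ X) →* kˣ, IsSymplectic β ∧
        ∀ x y : F, R ⁅x, y⁆ = ((β x y : kˣ) : k) • (1 : Module.End k U) := by
  choose c hcs using hcomm
  have hmul1 : ∀ x x' y, c (x * x') y = c x y * c x' y := fun x x' y => by
    apply smul_one_injective (U := U)
    rw [← hcs, show ⁅x * x', y⁆ = x * ⁅x', y⁆ * x⁻¹ * ⁅x, y⁆ by
      simp only [commutatorElement_def]; group, map_mul, map_mul, map_mul, hcs, hcs,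
      mul_smul_comm (c x' y), mul_one, smul_mul_assoc (c x' y) (R x), ← map_mul, mul_inv_cancel,
      map_one, smul_mul_smul_comm, mul_one, mul_comm (c x' y)]
  have hinv : ∀ x y, c x y * c y x = 1 := fun x y => by
    apply smul_one_injective (U := U)
    have h : ⁅x, y⁆ * ⁅y, x⁆ = 1 := by rw [← commutatorElement_inv y x, inv_mul_cancel]
    have h' := congrArg R h
    rw [map_mul, hcs, hcs, smul_mul_smul_comm, mul_one, map_one] at h'
    rw [one_smul]
    exact h'
  have hmul2 : ∀ x y y', c x (y * y') = c x y * c x y' := fun x y y' => by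
    have h1 := hinv x (y * y')
    rw [hmul1] at h1
    have h2 := hinv x y
    have h3 := hinv x y'
    have hne : c y x * c y' x ≠ 0 := fun h => by rw [h, mul_zero] at h1; exact zero_ne_one h1
    apply mul_right_cancel₀ hne
    rw [h1]
    linear_combination (-(c x y' * c y' x)) * h2 - h3
  have hX' : ∀ x, x ∈ X ↔ ∀ y, c x y = 1 := fun x => by
    rw [hX]
    refine forall_congr' fun y => ⟨fun h => ?_, fun h => by rw [hcs, h, one_smul]⟩
    apply smul_one_injective (U := U)
    rw [← hcs, h, one_smul]
  have hcX : ∀ x y : F, ⁅x, y⁆ ∈ X := fun x y => (hX _).mpr fun z => by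
    rw [commutatorElement_def ⁅x, y⁆, map_mul, map_mul, map_mul, hcs, commutatorElement_inv, hcs,
      smul_mul_assoc, one_mul, smul_mul_smul_comm, mul_one, smul_mul_assoc, ← map_mul,
      mul_inv_cancel, map_one, hinv, one_smul]
  have hc : ∀ a b : F ⧸ X, a * b = b * a := by
    intro a b
    induction a using QuotientGroup.induction_on with
    | H x =>
      induction b using QuotientGroup.induction_on with
      | H y =>
        rw [← QuotientGroup.mk_mul, ← QuotientGroup.mk_mul, QuotientGroup.eq]
        have := hcX y⁻¹ x⁻¹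
        rw [commutatorElement_def, inv_inv, inv_inv] at this
        convert this using 1
        group
  refine ⟨hc, ?_⟩
  letI : CommGroup (F ⧸ X) := { (inferInstance : Group (F ⧸ X)) with mul_comm := hc }
  have hc1 : ∀ y, c 1 y = 1 := fun y => by
    have h := hmul1 1 1 y
    rw [one_mul] at h
    have h2 := hinv 1 y
    exact (mul_eq_left₀ (fun h0 => by rw [h0, zero_mul] at h2; exact zero_ne_one h2)).mp h.symm
  let cu : F → F → kˣ := fun x y => ⟨c x y, c y x, hinv x y, by rw [mul_comm]; exact hinv x y⟩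
  let b0 : F → ((F ⧸ X) →* kˣ) := fun x =>
    QuotientGroup.lift X
      { toFun := cu x
        map_one' := Units.ext (by
          have h := hinv 1 x
          rw [hc1, one_mul] at h
          exact h)
        map_mul' := fun y y' => Units.ext (hmul2 x y y') }
      fun y hy => Units.ext (by
        have h := hinv y x
        rw [(hX' y).mp hy x, one_mul] at h
        exact h)
  let β : (F ⧸ X) →* (F ⧸ X) →* kˣ :=
    QuotientGroup.lift X
      { toFun := b0
        map_one' := MonoidHom.ext fun b => by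
          induction b using QuotientGroup.induction_on with
          | H y => exact Units.ext (hc1 y)
        map_mul' := fun x x' => MonoidHom.ext fun b => by
          induction b using QuotientGroup.induction_on with
          | H y => exact Units.ext (hmul1 x x' y) }
      fun x hx => MonoidHom.ext fun b => by
        induction b using QuotientGroup.induction_on with
        | H y => exact Units.ext ((hX' x).mp hx y)
  refine ⟨β, ⟨fun a => ?_, fun a ha => ?_⟩, fun x y => hcs x y⟩
  · induction a using QuotientGroup.induction_on with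
    | H x =>
      refine Units.ext (smul_one_injective (U := U) ?_)
      show c x x • (1 : Module.End k U) = (1 : k) • 1
      rw [← hcs, one_smul, commutatorElement_self, map_one]
  · induction a using QuotientGroup.induction_on with
    | H x => exact (QuotientGroup.eq_one_iff x).mpr ((hX' x).mpr fun y => congrArg Units.val (ha y))

/-- Burnside's lemma for a cyclic group of prime order. -/
theorem card_orbits_eq {M : Type*} [Group M] [Finite M] {ℓ : ℕ} (hℓ : ℓ.Prime) (h : MulAut M)
    (hh : orderOf h = ℓ) :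
    ℓ * Nat.card (MulAction.orbitRel.Quotient (Subgroup.zpowers h) M) =
      Nat.card M + (ℓ - 1) * Nat.card {x : M // h x = x} := by
  classical
  haveI := Fintype.ofFinite M
  haveI := Fact.mk hℓ
  have hfo : IsOfFinOrder h := orderOf_pos_iff.mp (hh ▸ hℓ.pos)
  haveI : Finite (Subgroup.zpowers h) := hfo.finite_zpowers.to_subtype
  haveI := Fintype.ofFinite (Subgroup.zpowers h)
  have hcard : Nat.card (Subgroup.zpowers h) = ℓ := by rw [Nat.card_zpowers, hh]
  have hb := MulAction.sum_card_fixedBy_eq_card_orbits_mul_card_group (Subgroup.zpowers h) M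
  simp only [← Nat.card_eq_fintype_card, hcard] at hb
  have hone : ∀ a : Subgroup.zpowers h, a ≠ 1 →
      Nat.card (MulAction.fixedBy M a) = Nat.card {x : M // h x = x} := by
    intro a ha
    refine Nat.card_congr (Equiv.subtypeEquivRight fun x => ?_)
    have hgen : (⟨h, Subgroup.mem_zpowers h⟩ : Subgroup.zpowers h) ∈ Subgroup.zpowers a :=
      mem_zpowers_of_prime_card (p := ℓ) hcard ha
    constructor
    · intro hx
      exact (Subgroup.zpowers_le (H := MulAction.stabilizer (Subgroup.zpowers h) x)).mpr hx hgen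
    · intro hx
      have h2 : Subgroup.zpowers h ≤ MulAction.stabilizer (MulAut M) x :=
        Subgroup.zpowers_le.mpr hx
      exact h2 a.2
  have h1 : Nat.card (MulAction.fixedBy M (1 : Subgroup.zpowers h)) = Nat.card M :=
    Nat.card_congr (Equiv.subtypeUnivEquiv fun x => one_smul _ x)
  rw [← Finset.add_sum_erase _ _ (Finset.mem_univ (1 : Subgroup.zpowers h)), h1,
    Finset.sum_congr rfl fun a ha => hone a (Finset.ne_of_mem_erase ha), Finset.sum_const,
    Finset.card_erase_of_mem (Finset.mem_univ _), Finset.card_univ, ← Nat.card_eq_fintype_card,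
    hcard, smul_eq_mul] at hb
  rw [hb, mul_comm]

/-- The key counting lemma. -/
theorem card_le_of_fpf [Finite F] [IsAlgClosed k] [FiniteDimensional k U] [Nontrivial U]
    (R : F →* Module.End k U) (g : Module.End k U) (s : MulAut F) {ℓ : ℕ} (hℓ : ℓ.Prime)
    (hs : s ^ ℓ = 1) (hgR : ∀ x, g * R x = R (s x) * g) (hg : ∑ i ∈ Finset.range ℓ, g ^ i = 0)
    (hℓk : (ℓ : k) ≠ 0) (hcomm : ∀ x y : F, ∃ c : k, R ⁅x, y⁆ = c • 1) (X : Subgroup F) [X.Normal]
    (hX : ∀ x : F, x ∈ X ↔ ∀ y : F, R ⁅x, y⁆ = 1) (h : MulAut (F ⧸ X))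
    (hh : ∀ x : F, h x = (s x : F)) :
    Nat.card (F ⧸ X) ≤ (ℓ - 1) ^ 2 * Nat.card {q : F ⧸ X // h q = q} := by
  classical
  obtain ⟨hcm, β, hβ, hβR⟩ := exists_pairing R hcomm X hX
  letI : CommGroup (F ⧸ X) := { (inferInstance : Group (F ⧸ X)) with mul_comm := hcm }
  have hhiter : ∀ (i : ℕ) (x : F), (h ^ i) (x : F ⧸ X) = ((s ^ i) x : F) := by
    intro i
    induction i with
    | zero => intro x; rfl
    | succ i ih => intro x; rw [pow_succ', MulAut.mul_apply, ih, hh, pow_succ', MulAut.mul_apply]
  by_cases htriv : h = 1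
  · have h1 : Nat.card {q : F ⧸ X // h q = q} = Nat.card (F ⧸ X) :=
      Nat.card_congr (Equiv.subtypeUnivEquiv fun q => by rw [htriv]; rfl)
    rw [h1]
    exact Nat.le_mul_of_pos_left _ (pow_pos (by have := hℓ.two_le; omega) 2)
  have hhℓ : h ^ ℓ = 1 := MulEquiv.ext fun q => by
    induction q using QuotientGroup.induction_on with
    | H x => rw [hhiter, hs]; rfl
  haveI := Fact.mk hℓ
  have hord : orderOf h = ℓ := orderOf_eq_prime hhℓ htriv
  -- a weight of the radical fixed by `s`
  have hXc : ∀ a b : X, R a * R b = R b * R a := fun a b => by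
    rw [← map_mul, ← map_mul, show (a : F) * b = ⁅(a : F), (b : F)⁆ * ((b : F) * a) by
      rw [commutatorElement_def]; group, map_mul, (hX _).mp a.2 b, one_mul]
  let E : (X → k) → Submodule k U := FpfSymThree.jointEigen fun a : X => R a
  obtain ⟨ω, hω⟩ := FpfSymThree.exists_jointEigen_ne_bot (fun a : X => R a) hXc
  have hFE : ∀ χ (x : F), ∀ v ∈ E χ, R x v ∈ E χ := fun χ x v hv a => by
    show R a (R x v) = χ a • R x v
    rw [← Module.End.mul_apply, ← map_mul, show (a : F) * x = ⁅(a : F), x⁆ * (x * a) by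
      rw [commutatorElement_def]; group, map_mul, (hX _).mp a.2 x, one_mul, map_mul,
      Module.End.mul_apply, hv a, map_smul]
  have hcs : ∀ x y : F, R ⁅s x, s y⁆ = R ⁅x, y⁆ := by
    intro x y
    have h1 : g * R ⁅x, y⁆ = R ⁅s x, s y⁆ * g := by rw [hgR, map_commutatorElement]
    obtain ⟨a, ha⟩ := hcomm x y
    obtain ⟨b, hb⟩ := hcomm (s x) (s y)
    rw [ha, hb, mul_smul_comm, mul_one, smul_mul_assoc, one_mul] at h1
    have hg0 : g ≠ 0 := by
      intro h0
      rw [h0, Finset.sum_eq_single_of_mem 0 (Finset.mem_range.mpr hℓ.pos)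
        (fun i _ hi => zero_pow hi), pow_zero] at hg
      exact one_ne_zero hg
    rw [ha, hb, smul_left_injective k hg0 h1]
  have hβh : ∀ a b, β (h a) (h b) = β a b := by
    intro a b
    induction a using QuotientGroup.induction_on with
    | H x =>
      induction b using QuotientGroup.induction_on with
      | H y =>
        rw [hh, hh]
        exact Units.ext (smul_one_injective (U := U) (by rw [← hβR, ← hβR, hcs]))
  have hsX : ∀ x ∈ X, s x ∈ X := by
    intro x hx
    rw [← QuotientGroup.eq_one_iff, ← hh, (QuotientGroup.eq_one_iff x).mpr hx, map_one]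
  let σX : (X → k) → (X → k) := fun χ a =>
    χ ⟨s⁻¹ a, by
      have : ((s⁻¹ (a : F) : F) : F ⧸ X) = 1 := h.injective (by
        rw [hh, MulAut.apply_inv_self, map_one]; exact (QuotientGroup.eq_one_iff _).mpr a.2)
      exact (QuotientGroup.eq_one_iff _).mp this⟩
  have hgE : ∀ χ, ∀ v ∈ E χ, g v ∈ E (σX χ) := fun χ v hv a => by
    show R a (g v) = σX χ a • g v
    have h1 := LinearMap.congr_fun (hgR (s⁻¹ (a : F))) v
    rw [Module.End.mul_apply, Module.End.mul_apply, MulAut.apply_inv_self] at h1
    rw [← h1, show R (s⁻¹ (a : F)) v = σX χ a • v from hv ⟨s⁻¹ (a : F), _⟩, map_smul]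
  have hωfix : σX ω = ω := by
    by_contra hne
    have hper : Function.minimalPeriod σX ω = ℓ := by
      have hp : Function.IsPeriodicPt σX ℓ ω := by
        have hit : ∀ (i : ℕ) (a : X), σX^[i] ω a =
            ω ⟨(s ^ i)⁻¹ a, by
              have : (((s ^ i)⁻¹ (a : F) : F) : F ⧸ X) = 1 := (h ^ i).injective (by
                rw [hhiter, MulAut.apply_inv_self, map_one]
                exact (QuotientGroup.eq_one_iff _).mpr a.2)
              exact (QuotientGroup.eq_one_iff _).mp this⟩ := by
          intro i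
          induction i with
          | zero => intro a; exact congrArg ω (Subtype.ext (by simp))
          | succ i ih =>
            intro a
            rw [Function.iterate_succ_apply']
            show σX^[i] ω ⟨s⁻¹ (a : F), _⟩ = _
            rw [ih]
            refine congrArg ω (Subtype.ext ?_)
            show (s ^ i)⁻¹ (s⁻¹ (a : F)) = (s ^ (i + 1))⁻¹ (a : F)
            rw [pow_succ' s i, mul_inv_rev, MulAut.mul_apply]
        funext a
        rw [hit]
        refine congrArg ω (Subtype.ext ?_)
        show (s ^ ℓ)⁻¹ (a : F) = a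
        rw [hs, inv_one]; rfl
      exact (hℓ.eq_one_or_self_of_dvd _ hp.minimalPeriod_dvd).resolve_left fun h1 =>
        hne (Function.minimalPeriod_eq_one_iff_isFixedPt.mp h1)
    obtain ⟨v, hv, hv0⟩ := Submodule.exists_mem_ne_zero_of_ne_bot hω
    have hvi : ∀ i : ℕ, (g ^ i) v ∈ E (σX^[i] ω) := by
      intro i
      induction i with
      | zero => exact hv
      | succ i ih =>
        rw [pow_succ', Module.End.mul_apply, Function.iterate_succ_apply']
        exact hgE _ _ ih
    have hinj : Function.Injective fun i : Fin ℓ => σX^[i] ω := fun i j hij =>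
      Fin.ext (Function.iterate_injOn_Iio_minimalPeriod (by rw [hper]; exact i.2)
        (by rw [hper]; exact j.2) hij)
    have hsum : ∑ i : Fin ℓ, (g ^ (i : ℕ)) v = 0 := by
      rw [Fin.sum_univ_eq_sum_range (fun i => (g ^ i) v), ← LinearMap.sum_apply, hg,
        LinearMap.zero_apply]
    have h0 := (iSupIndep_iff_finsetSum_eq_zero_imp_eq_zero _).mp
      ((FpfSymThree.iSupIndep_jointEigen fun a : X => R a).comp hinj) Finset.univ
      (fun i : Fin ℓ => (g ^ (i : ℕ)) v) (fun i _ => hvi i) hsum ⟨0, hℓ.pos⟩ (Finset.mem_univ _)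
    exact hv0 (by simpa using h0)
  -- an irreducible constituent
  obtain ⟨U₀, ⟨hU0ne, hU0le, hU0F⟩, hmin⟩ := exists_minimal_of_wellFoundedLT
    (fun S : Submodule k U => S ≠ ⊥ ∧ S ≤ E ω ∧ ∀ x : F, ∀ v ∈ S, R x v ∈ S)
    ⟨E ω, hω, le_rfl, hFE ω⟩
  haveI : Nontrivial U₀ := Submodule.nontrivial_iff_ne_bot.mpr hU0ne
  let ρ : F →* Module.End k U₀ :=
    { toFun := fun x => (R x).restrict (hU0F x)
      map_one' := LinearMap.ext fun u => Subtype.ext (by show R 1 u = _; rw [map_one]; rfl)
      map_mul' := fun x y => LinearMap.ext fun u => Subtype.ext (by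
        show R (x * y) u = R x (R y u); rw [map_mul]; rfl) }
  have hρ : ∀ (x : F) (u : U₀), (ρ x u : U) = R x u := fun _ _ => rfl
  have hρirr : ∀ S : Submodule k U₀, (∀ x, ∀ v ∈ S, ρ x v ∈ S) → S ≠ ⊥ → S = ⊤ := by
    intro S hS hS0
    have hne : S.map U₀.subtype ≠ ⊥ := fun h0 => hS0 (by
      apply Submodule.map_injective_of_injective U₀.injective_subtype
      rw [h0, Submodule.map_bot])
    have h1 := hmin ⟨hne, (Submodule.map_subtype_le U₀ S).trans hU0le, fun x v hv => by
      obtain ⟨u, hu, rfl⟩ := hv; exact ⟨ρ x u, hS x u hu, rfl⟩⟩ (Submodule.map_subtype_le U₀ S)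
    refine Submodule.map_injective_of_injective U₀.injective_subtype (le_antisymm
      (Submodule.map_mono le_top) ?_)
    rw [Submodule.map_top, Submodule.range_subtype]
    exact h1
  have hρX : ∀ a : X, ρ a = ω a • 1 := fun a => LinearMap.ext fun u => Subtype.ext (hU0le u.2 a)
  have hscal : ∀ f : Module.End k U₀, (∀ x, f * ρ x = ρ x * f) → ∃ c : k, f = c • 1 := by
    intro f hf
    obtain ⟨c, hc⟩ := Module.End.exists_eigenvalue f
    refine ⟨c, LinearMap.ext fun u => ?_⟩
    have htop := hρirr (Module.End.eigenspace f c) (fun x v hv => by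
      rw [Module.End.mem_eigenspace_iff, ← Module.End.mul_apply, hf, Module.End.mul_apply,
        Module.End.mem_eigenspace_iff.mp hv, map_smul]) hc
    exact Module.End.mem_eigenspace_iff.mp (htop ▸ Submodule.mem_top)
  -- coset representatives
  let M := F ⧸ X
  let t : M → F := Quotient.out
  haveI : Finite M := inferInstanceAs (Finite (F ⧸ X))
  haveI := Fintype.ofFinite M
  have htmk : ∀ q : M, ((t q : F) : M) = q := fun q => QuotientGroup.out_eq' q
  have hρc : ∀ x y : F, ρ ⁅x, y⁆ = ((β x y : kˣ) : k) • 1 := fun x y =>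
    LinearMap.ext fun u => Subtype.ext (by rw [hρ, hβR]; rfl)
  let f : F → Module.End k (Module.End k U₀) := fun y =>
    LinearMap.mulLeft k (ρ y) ∘ₗ LinearMap.mulRight k (ρ y⁻¹)
  have hli : ∀ w : M → F, (Function.Injective fun q => ((w q : F) : M)) →
      LinearIndependent k fun q => ρ (w q) := by
    intro w hw
    have hmem : ∀ x : F, ρ x ∈
        FpfSymThree.jointEigen f (fun y => ((β (y : M) (x : M) : kˣ) : k)) := fun x y => by
      show ρ y * (ρ x * ρ y⁻¹) = _
      rw [← map_mul, ← map_mul, show y * (x * y⁻¹) = ⁅y, x⁆ * x by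
        rw [commutatorElement_def]; group, map_mul, hρc, smul_mul_assoc, one_mul]
    have hinj : Function.Injective fun q => fun y : F => ((β (y : M) (w q : M) : kˣ) : k) := by
      intro q q' hqq
      refine hw (inv_mul_eq_one.mp (hβ.nondeg _ fun b => ?_))
      induction b using QuotientGroup.induction_on with
      | H y =>
        have h1 : β (y : M) (w q : M) = β (y : M) (w q' : M) := Units.ext (congrFun hqq y)
        have h2 : β (y : M) ((w q : M)⁻¹ * (w q' : M)) = 1 := by
          rw [map_mul, map_inv, h1, inv_mul_cancel]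
        rw [hβ.swap, h2, inv_one]
    exact (((FpfSymThree.iSupIndep_jointEigen f).comp hinj).linearIndependent _
      (fun q => hmem (w q)) (fun q => ne_zero_rep ρ _))
  have htinj : Function.Injective fun q => ((t q : F) : M) := fun a b hab => by
    simpa only [htmk] using hab
  -- averaging intertwiners
  have havg : ∀ (ρ' : F →* Module.End k U₀), (∀ a : X, ρ' a = ω a • 1) →
      ∀ (φ₀ : Module.End k U₀) (x : F),
        ρ' x * (∑ q : M, ρ' (t q) * φ₀ * ρ (t q)⁻¹) =
          (∑ q : M, ρ' (t q) * φ₀ * ρ (t q)⁻¹) * ρ x := by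
    intro ρ' hρ' φ₀ x
    rw [Finset.mul_sum, Finset.sum_mul]
    refine Fintype.sum_equiv (Equiv.mulLeft (x : M)) _ _ fun q => ?_
    rw [Equiv.coe_mulLeft]
    set q' := (x : M) * q
    have hz : (t q')⁻¹ * (x * t q) ∈ X := by
      rw [← QuotientGroup.eq, htmk, QuotientGroup.mk_mul, htmk]
    set z : X := ⟨_, hz⟩
    have h1 : x * t q = t q' * z := by simp [z]
    have hω : ∀ a : X, ω a * ω a⁻¹ = 1 := fun a => by
      apply smul_one_injective (U := U₀)
      have h := map_mul ρ (a : F) ((a⁻¹ : X) : F)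
      rw [show (a : F) * ((a⁻¹ : X) : F) = 1 by simp, map_one, hρX, hρX, smul_mul_smul_comm,
        mul_one] at h
      rw [one_smul]
      exact h.symm
    calc ρ' x * (ρ' (t q) * φ₀ * ρ (t q)⁻¹) = ρ' (x * t q) * φ₀ * ρ (t q)⁻¹ := by
          rw [map_mul ρ' x]; simp only [mul_assoc]
      _ = ω z • (ρ' (t q') * φ₀ * ρ (t q)⁻¹) := by
          rw [h1, map_mul, hρ', mul_smul_comm, mul_one, smul_mul_assoc, smul_mul_assoc]
      _ = ω z • (ρ' (t q') * φ₀ * ρ (((z⁻¹ : X) : F) * ((t q')⁻¹ * x))) := by
          congr 3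
          have h2 : ((z⁻¹ : X) : F) = ((t q')⁻¹ * (x * t q))⁻¹ := rfl
          rw [h2]; group
      _ = (ω z * ω z⁻¹) • (ρ' (t q') * φ₀ * (ρ (t q')⁻¹ * ρ x)) := by
          rw [map_mul ρ (((z⁻¹ : X) : F)), hρX, smul_mul_assoc, one_mul, mul_smul_comm, smul_smul,
            map_mul]
      _ = _ := by rw [hω, one_smul]; simp only [mul_assoc]; rfl
  let ρs : F →* Module.End k U₀ := ρ.comp s.toMonoidHom
  have hρsX : ∀ a : X, ρs a = ω a • 1 := fun a => by
    show ρ (s a) = _
    rw [hρX ⟨s a, hsX a a.2⟩, ← congrFun hωfix ⟨s a, hsX a a.2⟩]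
    show ω _ • _ = _
    congr 2
    exact Subtype.ext (MulAut.inv_apply_self ..)
  have hsinj : Function.Injective fun q => ((s (t q) : F) : M) := fun a b hab => by
    simp only [← hh, htmk] at hab
    exact h.injective hab
  -- an intertwiner for `s`
  obtain ⟨T, hT0, hT⟩ : ∃ T : Module.End k U₀, T ≠ 0 ∧ ∀ x, ρs x * T = T * ρ x := by
    by_contra hno
    push Not at hno
    have hall : ∀ φ₀, ∑ q : M, ρs (t q) * φ₀ * ρ (t q)⁻¹ = 0 := fun φ₀ => by
      by_contra hne
      obtain ⟨x, hx⟩ := hno _ hne
      exact hx (havg ρs hρsX φ₀ x)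
    obtain ⟨v, hv⟩ := exists_ne (0 : U₀)
    obtain ⟨l, hl⟩ : ∃ l : U₀ →ₗ[k] k, l v ≠ 0 := by
      by_contra h0
      push Not at h0
      exact hv ((Module.forall_dual_apply_eq_zero_iff k v).mp h0)
    have hrel : ∑ q : M, l (ρ (t q)⁻¹ (ρ (t 1) v)) • ρs (t q) = 0 := by
      refine LinearMap.ext fun u => ?_
      have h1 := LinearMap.congr_fun (hall (l.smulRight u)) (ρ (t 1) v)
      simp only [LinearMap.sum_apply, Module.End.mul_apply, LinearMap.smulRight_apply,
        map_smul] at h1
      simpa [LinearMap.sum_apply] using h1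
    have h2 := Fintype.linearIndependent_iff.mp (hli (fun q => s (t q)) hsinj) _ hrel 1
    rw [← Module.End.mul_apply, ← map_mul, inv_mul_cancel, map_one, Module.End.one_apply] at h2
    exact hl h2
  have hTinj : Function.Injective T := by
    rw [← LinearMap.ker_eq_bot]
    by_contra hk
    have := hρirr (LinearMap.ker T) (fun x v hv => by
      rw [LinearMap.mem_ker] at hv ⊢
      rw [← Module.End.mul_apply, ← hT, Module.End.mul_apply, hv, map_zero]) hk
    exact hT0 (LinearMap.ker_eq_top.mp this)
  let Te : U₀ ≃ₗ[k] U₀ := LinearEquiv.ofInjectiveEndo T hTinj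
  have hTe : ∀ u, Te u = T u := fun _ => rfl
  -- an eigenvector of `f ↦ g f T⁻¹` on intertwiners
  let H : Submodule k (U₀ →ₗ[k] U) :=
    { carrier := {f | ∀ (x : F) (u : U₀), f (ρ x u) = R x (f u)}
      zero_mem' := fun x u => by simp
      add_mem' := fun {a b} ha hb x u => by simp [ha x u, hb x u]
      smul_mem' := fun c a ha x u => by simp [ha x u] }
  haveI : Nontrivial H := by
    refine ⟨⟨⟨U₀.subtype, fun x u => rfl⟩, 0, fun h0 => ?_⟩⟩
    obtain ⟨v, hv⟩ := exists_ne (0 : U₀)
    exact hv (Subtype.ext (LinearMap.congr_fun (congrArg Subtype.val h0) v))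
  have hΘmem : ∀ f ∈ H, g ∘ₗ f ∘ₗ Te.symm.toLinearMap ∈ H := by
    intro f hf x u
    show g (f (Te.symm (ρ x u))) = R x (g (f (Te.symm u)))
    have h1 : Te.symm (ρ x u) = ρ (s⁻¹ x) (Te.symm u) := by
      apply Te.injective
      rw [LinearEquiv.apply_symm_apply, hTe, ← Module.End.mul_apply T, ← hT,
        Module.End.mul_apply, ← hTe, LinearEquiv.apply_symm_apply]
      show ρ x u = ρ (s (s⁻¹ x)) u
      rw [MulAut.apply_inv_self]
    rw [h1, hf, ← Module.End.mul_apply g, hgR, Module.End.mul_apply, MulAut.apply_inv_self]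
  let Θ : H →ₗ[k] H :=
    { toFun := fun f => ⟨g ∘ₗ f.1 ∘ₗ Te.symm.toLinearMap, hΘmem f.1 f.2⟩
      map_add' := fun a b => Subtype.ext (LinearMap.ext fun u => map_add g _ _)
      map_smul' := fun c a => Subtype.ext (LinearMap.ext fun u => map_smul g c _) }
  obtain ⟨c, hc⟩ := Module.End.exists_eigenvalue Θ
  obtain ⟨⟨φ, hφ⟩, hφe⟩ := hc.exists_hasEigenvector
  set T' : Module.End k U₀ := c • T with hT'
  have hgφ : ∀ u, g (φ u) = φ (T' u) := by
    intro u
    have h1 := LinearMap.congr_fun (congrArg Subtype.val hφe.apply_eq_smul) (T u)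
    have h2 : g (φ (Te.symm (T u))) = c • φ (T u) := h1
    rw [← hTe, LinearEquiv.symm_apply_apply, hTe] at h2
    rw [h2, hT', LinearMap.smul_apply, map_smul]
  have hφinj : Function.Injective φ := by
    rw [← LinearMap.ker_eq_bot]
    by_contra hk
    have := hρirr (LinearMap.ker φ) (fun x v hv => by
      rw [LinearMap.mem_ker] at hv ⊢
      rw [hφ, hv, map_zero]) hk
    exact hφe.2 (Subtype.ext (LinearMap.ker_eq_top.mp this))
  have hT'sum : ∑ i ∈ Finset.range ℓ, T' ^ i = 0 := by
    refine LinearMap.ext fun u => hφinj ?_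
    have hit : ∀ (i : ℕ) (u : U₀), (g ^ i) (φ u) = φ ((T' ^ i) u) := by
      intro i
      induction i with
      | zero => intro u; rfl
      | succ i ih =>
        intro u
        rw [pow_succ', pow_succ', Module.End.mul_apply, Module.End.mul_apply, ih, hgφ]
    rw [LinearMap.zero_apply, map_zero, LinearMap.sum_apply, map_sum,
      ← Finset.sum_congr rfl fun i _ => hit i u, ← LinearMap.sum_apply, hg, LinearMap.zero_apply]
  have hT'R : ∀ x, ρs x * T' = T' * ρ x := fun x => by
    rw [hT', mul_smul_comm, smul_mul_assoc, hT]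
  -- the spanning property
  have hspan : ⊤ ≤ Submodule.span k (Set.range fun q => ρ (t q)) := by
    set S := Submodule.span k (Set.range fun q => ρ (t q)) with hS
    have hSx : ∀ x, ρ x ∈ S := fun x => by
      have hz : (t (x : M))⁻¹ * x ∈ X := by rw [← QuotientGroup.eq, htmk]
      have h2 : ρ x = ω ⟨_, hz⟩ • ρ (t (x : M)) := by
        conv_lhs => rw [show x = t (x : M) * ((t (x : M))⁻¹ * x) by group]
        rw [map_mul, hρX ⟨_, hz⟩, mul_smul_comm, mul_one]
      rw [h2]
      exact S.smul_mem _ (Submodule.subset_span ⟨_, rfl⟩)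
    have hSmul : ∀ a ∈ S, ∀ x, a * ρ x ∈ S ∧ ρ x * a ∈ S := by
      intro a ha x
      induction ha using Submodule.span_induction with
      | mem a ha =>
        obtain ⟨q, rfl⟩ := ha
        exact ⟨by rw [← map_mul]; exact hSx _, by rw [← map_mul]; exact hSx _⟩
      | zero => exact ⟨by rw [zero_mul]; exact S.zero_mem, by rw [mul_zero]; exact S.zero_mem⟩
      | add a b _ _ ha hb =>
        exact ⟨by rw [add_mul]; exact S.add_mem ha.1 hb.1,
          by rw [mul_add]; exact S.add_mem ha.2 hb.2⟩
      | smul c a _ ha =>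
        exact ⟨by rw [smul_mul_assoc]; exact S.smul_mem c ha.1,
          by rw [mul_smul_comm]; exact S.smul_mem c ha.2⟩
    let Λ : Submodule k (U₀ →ₗ[k] k) :=
      { carrier := {l | ∀ v, l.smulRight v ∈ S}
        zero_mem' := fun v => by simp
        add_mem' := fun {a b} ha hb v => by
          have : (a + b).smulRight v = a.smulRight v + b.smulRight v :=
            LinearMap.ext fun u => by simp [add_smul]
          rw [this]; exact S.add_mem (ha v) (hb v)
        smul_mem' := fun c a ha v => by
          have : (c • a).smulRight v = c • a.smulRight v := LinearMap.ext fun u => by simp [smul_smul]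
          rw [this]; exact S.smul_mem c (ha v) }
    obtain ⟨v, hv⟩ := exists_ne (0 : U₀)
    obtain ⟨l, hl⟩ : ∃ l : U₀ →ₗ[k] k, l v ≠ 0 := by
      by_contra h0
      push Not at h0
      exact hv ((Module.forall_dual_apply_eq_zero_iff k v).mp h0)
    have hrank : ∃ l₀ : U₀ →ₗ[k] k, l₀ ≠ 0 ∧ l₀.smulRight v ∈ S := by
      let A : Module.End k U₀ := ∑ q : M, l (ρ (t q)⁻¹ v) • ρ (t q)
      have hAS : A ∈ S := S.sum_mem fun q _ => S.smul_mem _ (hSx _)
      have hA0 : A ≠ 0 := by
        intro h0
        have h2 := Fintype.linearIndependent_iff.mp (hli t htinj) _ h0 1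
        have hz : t (1 : M) ∈ X := (QuotientGroup.eq_one_iff _).mp (htmk 1)
        have hz' : ρ (t 1)⁻¹ = ω (⟨t 1, hz⟩⁻¹ : X) • 1 := hρX (⟨t 1, hz⟩⁻¹ : X)
        rw [hz', LinearMap.smul_apply, Module.End.one_apply, map_smul, smul_eq_mul] at h2
        rcases mul_eq_zero.mp h2 with h3 | h3
        · have h4 : ρ (t 1)⁻¹ = 0 := by rw [hz', h3, zero_smul]
          exact ne_zero_rep ρ _ h4
        · exact hl h3
      have hval : ∀ u, ∃ a : k, A u = a • v := by
        intro u
        obtain ⟨a, ha⟩ := hscal (∑ q : M, ρ (t q) * l.smulRight u * ρ (t q)⁻¹)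
          fun x => (havg ρ hρX (l.smulRight u) x).symm
        refine ⟨a, ?_⟩
        have h1 := LinearMap.congr_fun ha v
        simp only [LinearMap.sum_apply, Module.End.mul_apply, LinearMap.smulRight_apply, map_smul,
          LinearMap.smul_apply, Module.End.one_apply] at h1
        simpa [A, LinearMap.sum_apply] using h1
      choose a ha using hval
      let l₀ : U₀ →ₗ[k] k :=
        { toFun := a
          map_add' := fun u w => smul_left_injective k hv (by
            show a (u + w) • v = (a u + a w) • v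
            rw [← ha, map_add, ha, ha, add_smul])
          map_smul' := fun c u => smul_left_injective k hv (by
            show a (c • u) • v = (c • a u) • v
            rw [← ha, map_smul, ha, smul_smul, smul_eq_mul]) }
      have hAeq : l₀.smulRight v = A := LinearMap.ext fun u => (ha u).symm
      refine ⟨l₀, fun h0 => hA0 ?_, hAeq ▸ hAS⟩
      rw [← hAeq, h0]
      exact LinearMap.ext fun u => by simp
    obtain ⟨l₀, hl₀, hl₀S⟩ := hrank
    have hΛl : l₀ ∈ Λ := by
      intro w
      let O : Submodule k U₀ :=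
        { carrier := {w | l₀.smulRight w ∈ S}
          zero_mem' := by simp
          add_mem' := fun {a b} ha hb => by
            have : l₀.smulRight (a + b) = l₀.smulRight a + l₀.smulRight b :=
              LinearMap.ext fun u => by simp
            show _ ∈ S
            rw [this]; exact S.add_mem ha hb
          smul_mem' := fun c a ha => by
            have : l₀.smulRight (c • a) = c • l₀.smulRight a :=
              LinearMap.ext fun u => by simp [smul_smul, mul_comm]
            show _ ∈ S
            rw [this]; exact S.smul_mem c ha }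
      have hO := hρirr O (fun x a ha => by
        have : l₀.smulRight (ρ x a) = ρ x * l₀.smulRight a := LinearMap.ext fun u => by simp
        show _ ∈ S
        rw [this]; exact (hSmul _ ha x).2) fun h0 => hv (by
          rw [← Submodule.mem_bot (R := k), ← h0]; exact hl₀S)
      exact (hO ▸ Submodule.mem_top : w ∈ O)
    have hΛtop : Λ = ⊤ := by
      have hco : Λ.dualCoannihilator = ⊥ := by
        by_contra h0
        have h1 := hρirr Λ.dualCoannihilator (fun x w hw => by
          rw [Submodule.mem_dualCoannihilator] at hw ⊢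
          intro l' hl'
          refine hw (l' ∘ₗ ρ x) fun u => ?_
          have : (l' ∘ₗ ρ x).smulRight u = l'.smulRight u * ρ x := LinearMap.ext fun _ => rfl
          rw [this]; exact (hSmul _ (hl' u) x).1) h0
        exact hl₀ (LinearMap.ext fun w => (Submodule.mem_dualCoannihilator _).mp
          (h1 ▸ Submodule.mem_top : w ∈ Λ.dualCoannihilator) l₀ hΛl)
      have h2 := Subspace.dualCoannihilator_dualAnnihilator_eq (W := Λ)
      rw [hco, Submodule.dualAnnihilator_bot] at h2
      exact h2.symm
    intro a _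
    let b := Module.finBasis k U₀
    have ha : a = ∑ i, (b.coord i).smulRight (a (b i)) := by
      refine b.ext fun j => ?_
      simp [LinearMap.sum_apply, Basis.coord_apply, Finsupp.single_apply]
    rw [ha]
    exact S.sum_mem fun i _ => (hΛtop ▸ Submodule.mem_top : b.coord i ∈ Λ) _
  let B := Module.Basis.mk (hli t htinj) hspan
  have hB : ∀ q, B q = ρ (t q) := fun q => congrFun (Module.Basis.coe_mk _ _) q
  have hdim : Nat.card M = finrank k U₀ ^ 2 := by
    rw [Nat.card_eq_fintype_card, ← Module.finrank_eq_card_basis B, Module.finrank_linearMap, sq]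
  -- the commutant bound
  let ν : k[X] := ∑ i ∈ Finset.range ℓ, Polynomial.X ^ i
  have hmul : ν * (Polynomial.X - 1) = Polynomial.X ^ ℓ - 1 := geom_sum_mul _ _
  have hsq : Squarefree ν :=
    ((X_pow_sub_one_separable_iff.mpr hℓk).of_dvd ⟨Polynomial.X - 1, hmul.symm⟩).squarefree
  have hdeg : ν.natDegree = ℓ - 1 := by
    have h' := congrArg natDegree hmul
    have hν0 : ν ≠ 0 := hsq.ne_zero
    have hX1 : (Polynomial.X - C (1 : k)).natDegree = 1 := natDegree_X_sub_C 1
    have hXr : (Polynomial.X ^ ℓ - C (1 : k)).natDegree = ℓ := natDegree_X_pow_sub_C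
    rw [C_1] at hX1 hXr
    have hX0 : (Polynomial.X - 1 : k[X]) ≠ 0 := by rw [← C_1]; exact X_sub_C_ne_zero 1
    rw [natDegree_mul hν0 hX0, hX1, hXr] at h'
    omega
  have hann : aeval T' ν = 0 := by simpa [ν, map_sum] using hT'sum
  have hb1 := HallHigmanOdd.sq_finrank_le hsq T' hann
  rw [hdeg] at hb1
  -- the orbit bound
  let Ω := MulAction.orbitRel.Quotient (Subgroup.zpowers h) M
  have hrepr : ∀ q, ρ (s (t q)) ≠ 0 := fun q => ne_zero_rep ρ _
  have hzq : ∀ q, ∃ a : k, a ≠ 0 ∧ ρ (s (t q)) = a • ρ (t (h q)) := fun q => by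
    have hz : (t (h q))⁻¹ * s (t q) ∈ X := by rw [← QuotientGroup.eq, htmk, ← hh, htmk]
    have h2 : ρ (s (t q)) = ω ⟨_, hz⟩ • ρ (t (h q)) := by
      conv_lhs => rw [show s (t q) = t (h q) * ((t (h q))⁻¹ * s (t q)) by group]
      rw [map_mul, hρX ⟨_, hz⟩, mul_smul_comm, mul_one]
    exact ⟨_, fun h0 => hrepr q (by rw [h2, h0, zero_smul]), h2⟩
  choose a ha0 ha using hzq
  have hcoef : ∀ A : HallHigmanOdd.commutant T', ∀ q,
      B.repr A.1 q = 0 → B.repr A.1 (h q) = 0 := by
    intro A q hq
    have hA : T' * A.1 = A.1 * T' := A.2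
    have h1 : T' * A.1 = (∑ p : M, (B.repr A.1 p * a p) • ρ (t (h p))) * T' := by
      conv_lhs => rw [← B.sum_repr A.1, Finset.mul_sum]
      rw [Finset.sum_mul]
      refine Finset.sum_congr rfl fun p _ => ?_
      rw [hB, mul_smul_comm, ← hT'R, ← smul_smul, ← ha, smul_mul_assoc]
      rfl
    rw [hA] at h1
    have hT'inj : Function.Injective T' := by
      intro u w huw
      have hpow : T' ^ ℓ = 1 := by
        have h3 := geom_sum_mul T' ℓ
        rw [hT'sum, zero_mul] at h3
        exact (sub_eq_zero.mp h3.symm)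
      have h4 := congrArg (T' ^ (ℓ - 1)) huw
      rwa [← Module.End.mul_apply, ← Module.End.mul_apply, ← pow_succ,
        Nat.sub_add_cancel hℓ.one_le, hpow] at h4
    have h2 : A.1 = ∑ p : M, (B.repr A.1 p * a p) • B (h p) := by
      refine LinearMap.ext fun u => ?_
      obtain ⟨w, rfl⟩ := (LinearEquiv.ofInjectiveEndo T' hT'inj).surjective u
      have h5 := LinearMap.congr_fun h1 w
      simp only [hB]
      exact h5
    rw [h2, map_sum, Finsupp.finsetSum_apply]
    refine Finset.sum_eq_zero fun p _ => ?_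
    rw [map_smul, Finsupp.smul_apply, B.repr_self, Finsupp.single_apply]
    split_ifs with hpq
    · rw [h.injective hpq, hq, zero_mul, zero_smul]
    · exact smul_zero _
  let ev : HallHigmanOdd.commutant T' →ₗ[k] (Ω → k) :=
    { toFun := fun A o => B.repr A.1 o.out
      map_add' := fun A A' => funext fun o => by simp
      map_smul' := fun c A => funext fun o => by simp }
  have hev : Function.Injective ev := by
    intro A₁ A₂ hA₁₂
    have hmem : T' * (A₁.1 - A₂.1) = (A₁.1 - A₂.1) * T' := by
      rw [mul_sub, sub_mul, show T' * A₁.1 = A₁.1 * T' from A₁.2,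
        show T' * A₂.1 = A₂.1 * T' from A₂.2]
    let A : HallHigmanOdd.commutant T' := ⟨A₁.1 - A₂.1, hmem⟩
    have hA : ∀ o : Ω, B.repr A.1 o.out = 0 := fun o => by
      show B.repr (A₁.1 - A₂.1) o.out = 0
      rw [map_sub, Finsupp.sub_apply, sub_eq_zero]
      exact congrFun hA₁₂ o
    refine Subtype.ext (sub_eq_zero.mp (B.repr.injective (Finsupp.ext fun q => ?_)))
    rw [map_zero, Finsupp.zero_apply]
    obtain ⟨o, ho⟩ : ∃ o : Ω, q ∈ MulAction.orbit (Subgroup.zpowers h) o.out := by
      refine ⟨Quotient.mk'' q, ?_⟩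
      have := Quotient.mk_out' (s₁ := MulAction.orbitRel (Subgroup.zpowers h) M) q
      exact MulAction.orbit_eq_iff.mp (MulAction.orbit_eq_iff.mpr this).symm
    obtain ⟨⟨w, hw⟩, rfl⟩ := ho
    have hfo : IsOfFinOrder h := orderOf_pos_iff.mp (hord ▸ hℓ.pos)
    obtain ⟨i, hi⟩ : ∃ i : ℕ, h ^ i = w := by
      obtain ⟨j, hj⟩ := Subgroup.mem_zpowers_iff.mp hw
      refine ⟨(j % (orderOf h : ℤ)).toNat, ?_⟩
      rw [← zpow_natCast, Int.toNat_of_nonneg (Int.emod_nonneg _ (by rw [hord]; exact_mod_cast hℓ.ne_zero)),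
        zpow_mod_orderOf, hj]
    have hi' : h ^ i = w := hi
    subst hi'
    show B.repr A.1 ((h ^ i) o.out) = 0
    clear hw hi
    induction i with
    | zero => exact hA o
    | succ i ih => rw [pow_succ', MulAut.mul_apply]; exact hcoef A _ ih
  haveI : Finite Ω := Quotient.finite _
  haveI := Fintype.ofFinite Ω
  have hb2 := LinearMap.finrank_le_finrank_of_injective hev
  rw [Module.finrank_fintype_fun_eq_card, ← Nat.card_eq_fintype_card] at hb2
  have hb3 := card_orbits_eq hℓ h hord
  have hℓ1 : ℓ = ℓ - 1 + 1 := (Nat.succ_pred_eq_of_pos hℓ.pos).symm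
  have hchain : Nat.card M ≤ (ℓ - 1) * Nat.card Ω :=
    hdim ▸ hb1.trans (Nat.mul_le_mul_left _ hb2)
  change ℓ * Nat.card Ω = Nat.card M + _ at hb3
  show Nat.card M ≤ _
  generalize hL : ℓ - 1 = L at *
  rw [hℓ1] at hb3
  nlinarith

end Cfsg.Agent.Lib.FpfPq
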