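import Cfsg.Agent.Lib.FpfPq.Basic
import Cfsg.Agent.Lib.FpfPq.Key

/-!
# The critical configuration

An abelian group `S` acts nontrivially on a group `R`, both admit a group `A` of order `pq`
without nontrivial fixed points and coprimely, and `R` is faithful on a module without `A`-fixed
vectors: this is impossible if `R` is abelian, and forces `R` abelian if it has class two.
-/

set_option autoImplicit false

namespace Cfsg.Agent.Lib.FpfPq

open Cfsg.Agent.Lib
open scoped commutatorElement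

variable {A : Type*} [Group A] [Finite A] {Q : Subgroup A} {R : Type*} [Group R] [Finite R]
  {S : Type*} [CommGroup S] [Finite S] {k W : Type*} [Field k] [AddCommGroup W] [Module k W]

/-- The hypotheses of the configuration. -/
structure IsConfig [Fintype A] (Q : Subgroup A) (φ : A →* MulAut R) (ψ : A →* MulAut S)
    (θ : S →* MulAut R) (ρ : R →* Module.End k W) (σ : A →* Module.End k W) : Prop where
  grp : IsPqGroup A Q
  compatS : ∀ a t, φ a * θ t = θ (ψ a t) * φ a
  compatW : ∀ a x, σ a * ρ x = ρ (φ a x) * σ a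
  sum_eq : ∀ v, ∑ a, σ a v = 0
  inj : Function.Injective ρ
  fpfR : ∀ x, (∀ a, φ a x = x) → x = 1
  fpfS : ∀ t, (∀ a, ψ a t = t) → t = 1
  copR : (Nat.card A).Coprime (Nat.card R)
  copS : (Nat.card A).Coprime (Nat.card S)
  copSR : (Nat.card S).Coprime (Nat.card R)
  irrS : ∀ L : Subgroup S, (∀ a, ∀ y ∈ L, ψ a y ∈ L) → L = ⊥ ∨ L = ⊤
  nontriv : ∃ t, θ t ≠ 1
  cardR_ne : (Nat.card R : k) ≠ 0
  cardA_ne : (Nat.card A : k) ≠ 0

namespace IsConfig

variable [Fintype A] {φ : A →* MulAut R} {ψ : A →* MulAut S} {θ : S →* MulAut R}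
  {ρ : R →* Module.End k W} {σ : A →* Module.End k W} (hc : IsConfig Q φ ψ θ ρ σ)
include hc

theorem exists_ne_one : ∃ t : S, t ≠ 1 := by
  obtain ⟨t, ht⟩ := hc.nontriv
  exact ⟨t, fun h => ht (by rw [h, map_one])⟩

theorem sup_commRange_eq_top {h h' : A}
    (htop : Subgroup.zpowers h ⊔ Subgroup.zpowers h' = ⊤) :
    commRange ψ h ⊔ commRange ψ h' = ⊤ := by
  set M := commRange ψ h ⊔ commRange ψ h'
  have hm : ∀ a, a ∈ modStab ψ M := fun a => by
    have hle : Subgroup.zpowers h ⊔ Subgroup.zpowers h' ≤ modStab ψ M := sup_le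
      (Subgroup.zpowers_le.mpr fun x => Subgroup.mem_sup_left (mem_commRange ψ h x))
      (Subgroup.zpowers_le.mpr fun x => Subgroup.mem_sup_right (mem_commRange ψ h' x))
    exact hle (htop ▸ Subgroup.mem_top a)
  refine (hc.irrS M fun a y hy => ?_).resolve_left fun h0 => ?_
  · rw [show ψ a y = y * (y⁻¹ * ψ a y) by group]
    exact M.mul_mem hy (hm a y)
  · obtain ⟨t, ht⟩ := hc.exists_ne_one
    refine ht (hc.fpfS t fun a => ?_)
    have := hm a t
    rw [h0, Subgroup.mem_bot] at this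
    exact (inv_mul_eq_one.mp this).symm

theorem commRange_eq_bot_or_top {g : A} (hg : Subgroup.zpowers g = Q) :
    commRange ψ g = ⊥ ∨ commRange ψ g = ⊤ := by
  refine hc.irrS _ fun a y hy => ?_
  obtain ⟨x, rfl⟩ := hy
  have hQn := hc.grp.normal
  have hmem : a * g * a⁻¹ ∈ modStab ψ (commRange ψ g) :=
    (Subgroup.zpowers_le (H := modStab ψ _)).mpr (fun x => mem_commRange ψ g x)
      (hg ▸ hQn.conj_mem g (hg ▸ Subgroup.mem_zpowers g) a)
  have h1 := hmem (ψ a x)
  rw [← MulAut.mul_apply, ← map_mul, inv_mul_cancel_right, map_mul, MulAut.mul_apply] at h1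
  simpa [div_eq_mul_inv, map_mul, map_inv, mul_comm] using h1

theorem apply_eq_one_of_bot {g : A} (h : commRange ψ g = ⊥) : ψ g = 1 :=
  MulEquiv.ext fun x => by
    have h1 := mem_commRange ψ g x
    rw [h, Subgroup.mem_bot] at h1
    exact (inv_mul_eq_one.mp h1).symm

/-- A generator of a proper subgroup fixes nothing in `[S, h]`. -/
theorem fpf_commRange {h : A} {ℓ : ℕ} (hord : orderOf h = ℓ) (hdvd : ℓ ∣ Nat.card A) {y : S}
    (hy : y ∈ commRange ψ h) (hfix : ψ h y = y) : y = 1 := by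
  obtain ⟨x, hx⟩ := hy
  have hxy : ψ h x = x * y := by
    rw [← hx]; simp [div_eq_mul_inv, mul_comm, mul_left_comm]
  have hit : ∀ i : ℕ, ψ (h ^ i) x = x * y ^ i := by
    intro i
    induction i with
    | zero => rw [pow_zero, map_one, pow_zero, mul_one]; rfl
    | succ i ih =>
      rw [pow_succ', map_mul, MulAut.mul_apply, ih, map_mul, map_pow, hxy, hfix, mul_assoc,
        ← pow_succ']
  have h1 := hit ℓ
  rw [← hord, pow_orderOf_eq_one, map_one, hord] at h1
  have h2 : y ^ ℓ = 1 := mul_left_cancel (h1.symm.trans (mul_one x).symm)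
  exact eq_one_of_pow_coprime ((hc.copS.coprime_dvd_left hdvd).symm) h2

theorem fpfS_off {g h : A} (hψ : ψ g = 1)
    (htop : Subgroup.zpowers g ⊔ Subgroup.zpowers h = ⊤) {t : S} (ht : ψ h t = t) : t = 1 := by
  refine hc.fpfS t fun a => ?_
  have hle : Subgroup.zpowers g ⊔ Subgroup.zpowers h ≤
      (MulAction.stabilizer (MulAut S) t).comap ψ := sup_le
    (Subgroup.zpowers_le.mpr (by show ψ g t = t; rw [hψ]; rfl)) (Subgroup.zpowers_le.mpr ht)
  exact hle (htop ▸ Subgroup.mem_top a)

/-- `C_R(Q)` is centralised by `S` when `S` is centralised by `Q`. -/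
theorem apply_eq_self_of_fixedQ {g : A} (hg : Subgroup.zpowers g = Q) (hψ : ψ g = 1)
    (hsolv : Group.IsSolvable R) {v : R} (hv : ∀ a ∈ Q, φ a v = v) (t : S) : θ t v = v := by
  classical
  obtain ⟨a, ha⟩ : ∃ a, a ∉ Q := by
    by_contra h0
    push Not at h0
    exact hc.grp.ne_top (eq_top_iff.mpr fun a _ => h0 a)
  have hz0 : Subgroup.zpowers a ≠ ⊥ := fun h0 => ha (by
    rw [Subgroup.zpowers_eq_bot] at h0; rw [h0]; exact Q.one_mem)
  have hz1 : Subgroup.zpowers a ≠ ⊤ := fun h0 => hc.grp.not_comm fun x y => by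
    obtain ⟨i, rfl⟩ := Subgroup.mem_zpowers_iff.mp (h0 ▸ Subgroup.mem_top x : x ∈ Subgroup.zpowers a)
    obtain ⟨j, rfl⟩ := Subgroup.mem_zpowers_iff.mp (h0 ▸ Subgroup.mem_top y : y ∈ Subgroup.zpowers a)
    rw [← zpow_add, ← zpow_add, add_comm]
  obtain ⟨h, ℓ, hℓ, hord, hdvd, hzh⟩ := hc.grp.exists_generator hz0 hz1
  have htop : Subgroup.zpowers g ⊔ Subgroup.zpowers h = ⊤ := by
    rw [hg, hzh]
    exact hc.grp.sup_eq_top hc.grp.ne_bot hz0 fun h0 => ha (h0 ▸ Subgroup.mem_zpowers a)
  set V := Wielandt.fixedSub φ Q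
  have hVθ : ∀ t, ∀ x ∈ V, θ t x ∈ V := by
    intro t x hx b hb
    have h2 := MulEquiv.ext_iff.mp (hc.compatS b t) x
    rw [MulAut.mul_apply, MulAut.mul_apply, hx b hb] at h2
    have hb1 : ψ b = 1 := (Subgroup.zpowers_le (H := ψ.ker)).mpr hψ (hg ▸ hb)
    rw [hb1, MulAut.one_apply] at h2
    exact h2
  have hVh : ∀ x ∈ V, φ h x ∈ V := by
    intro x hx b hb
    have h2 := hx (h⁻¹ * b * h) (by simpa using hc.grp.normal.conj_mem b hb h⁻¹)
    rw [← MulAut.mul_apply, ← map_mul]
    conv_lhs => rw [show b * h = h * (h⁻¹ * b * h) by group, map_mul, MulAut.mul_apply, h2]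
  let ψh : MulAut V :=
    MulEquiv.ofBijective (MonoidHom.mk' (fun x : V => (⟨φ h x, hVh x x.2⟩ : V))
        fun x y => Subtype.ext (map_mul (φ h) (x : R) y))
      (Finite.injective_iff_bijective.mp fun x y hxy =>
        Subtype.ext ((φ h).injective (congrArg Subtype.val hxy)))
  have hψh : ∀ (i : ℕ) (x : V), (((ψh ^ i) x : V) : R) = φ (h ^ i) x := by
    intro i
    induction i with
    | zero => intro x; rw [pow_zero, pow_zero, map_one]; rfl
    | succ i ih =>
      intro x
      rw [pow_succ', pow_succ', map_mul, MulAut.mul_apply, MulAut.mul_apply, ← ih]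
      rfl
  have hψℓ : ψh ^ ℓ = 1 := MulEquiv.ext fun x => Subtype.ext (by
    rw [hψh, ← hord, pow_orderOf_eq_one, map_one]; rfl)
  have hηℓ : ψ h ^ ℓ = 1 := by rw [← map_pow, ← hord, pow_orderOf_eq_one, map_one]
  have hone := eq_one_of_no_fixed (V := V) (inferInstance) hℓ (Wielandt.restrictAct θ V hVθ) ψh
    hψℓ (ψ h) hηℓ (fun t ht => hc.fpfS_off hψ htop ht)
    (fun t => MulEquiv.ext fun x => Subtype.ext
      (MulEquiv.ext_iff.mp (hc.compatS h t) (x : R)))
    (fun x hx => Subtype.ext (hc.fpfR x fun b => by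
      have hle : Subgroup.zpowers g ⊔ Subgroup.zpowers h ≤
          (MulAction.stabilizer (MulAut R) (x : R)).comap φ := sup_le
        (Subgroup.zpowers_le.mpr (x.2 g (hg ▸ Subgroup.mem_zpowers g)))
        (Subgroup.zpowers_le.mpr (congrArg Subtype.val hx))
      exact hle (htop ▸ Subgroup.mem_top b)))
    (hc.copSR.coprime_dvd_right V.card_subgroup_dvd_card)
    ((hc.copR.coprime_dvd_left hdvd).coprime_dvd_right V.card_subgroup_dvd_card) t
  exact congrArg Subtype.val (MulEquiv.ext_iff.mp hone ⟨v, hv⟩)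

section Abelian

variable [IsAlgClosed k] [FiniteDimensional k W]

/-- There is no configuration with `R` abelian. -/
theorem false_of_abelian (hab : ∀ x y : R, x * y = y * x)
    (hCS : ∀ x, (∀ t, θ t x = x) → x = 1)
    (hS : ∀ t, ∃ M : Module.End k W, Function.Injective M ∧ ∀ x, M * ρ x = ρ (θ t x) * M) :
    False := by
  classical
  letI : CommGroup R := { (inferInstance : Group R) with mul_comm := hab }
  haveI := Fintype.ofFinite S
  set E := FpfSymThree.jointEigen fun x : R => ρ x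
  have hspan : ⨆ χ, E χ = ⊤ := iSup_jointEigen_eq_top ρ hc.cardR_ne
  have hprodfix : ∀ (L : Subgroup S) (x : R), ∀ u ∈ L,
      θ u (∏ t : L, θ t x) = ∏ t : L, θ t x := fun L x u hu => by
    rw [map_prod]
    exact Fintype.prod_equiv (Equiv.mulLeft (⟨u, hu⟩ : L)) _ _ fun t => by
      rw [Equiv.coe_mulLeft, Subgroup.coe_mul, map_mul, MulAut.mul_apply]
  let wh : ∀ χ : R → k, E χ ≠ ⊥ → (R →* k) := fun χ hχ =>
    { toFun := χ, map_one' := (weight_mul ρ hχ).1, map_mul' := (weight_mul ρ hχ).2 }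
  have hpow : ∀ (χ : R → k), E χ ≠ ⊥ → ∀ x, ∀ n : ℕ, n.Coprime (Nat.card R) → χ x ^ n = 1 →
      χ x = 1 := by
    intro χ hχ x n hn h1
    have h2 : χ x ^ Nat.card R = 1 := by
      show wh χ hχ x ^ Nat.card R = 1
      rw [← map_pow, pow_card_eq_one', map_one]
    have := pow_gcd_eq_one.mpr ⟨h1, h2⟩
    rwa [hn, pow_one] at this
  -- a weight invariant under `S` is trivial
  have hSinv : ∀ (χ : R → k), E χ ≠ ⊥ → ∀ x, (∀ t, χ (θ t x) = χ x) → χ x = 1 := by
    intro χ hχ x hx
    refine hpow χ hχ x _ hc.copSR ?_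
    have h1 : ∏ t : S, θ t x = 1 := hCS _ fun u => by
      rw [map_prod]
      exact Fintype.prod_equiv (Equiv.mulLeft u) _ _ fun t => by
        rw [Equiv.coe_mulLeft, map_mul, MulAut.mul_apply]
    have h2 : χ (∏ t : S, θ t x) = ∏ t : S, χ (θ t x) :=
      map_prod (wh χ hχ) (fun t : S => θ t x) Finset.univ
    rw [h1, (weight_mul ρ hχ).1, Finset.prod_congr rfl fun t _ => hx t, Finset.prod_const,
      Finset.card_univ, ← Nat.card_eq_fintype_card] at h2
    exact h2.symm
  have hstab0 : ∀ χ, E χ ≠ ⊥ → weightStab φ χ ≠ ⊥ := fun χ hχ =>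
    weightStab_ne_bot φ ρ σ hc.compatW hc.sum_eq hχ
  have hstab1 : ∀ χ, E χ ≠ ⊥ → (∃ x, χ x ≠ 1) → weightStab φ χ ≠ ⊤ := fun χ hχ ⟨x, hx⟩ h0 =>
    hx (weight_eq_one_of_fixed φ hc.fpfR hc.copR (weight_mul ρ hχ).1 (weight_mul ρ hχ).2 h0 x)
  have hEt : ∀ (t : S) χ, E χ ≠ ⊥ → E (FpfSymThree.pullback (θ t) χ) ≠ ⊥ := by
    intro t χ hχ h0
    obtain ⟨M, hMinj, hM⟩ := hS t
    obtain ⟨v, hv, hv0⟩ := Submodule.exists_mem_ne_zero_of_ne_bot hχ
    have h1 : M v ∈ E (FpfSymThree.pullback (θ t) χ) :=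
      FpfSymThree.apply_mem_jointEigen (α := θ t) hM hv
    rw [h0, Submodule.mem_bot] at h1
    exact hv0 (hMinj (by rw [h1, map_zero]))
  -- `S`-translates of a weight have the same stabiliser
  have horb : ∀ χ, E χ ≠ ⊥ → (∃ x, χ x ≠ 1) → ∀ t,
      weightStab φ (FpfSymThree.pullback (θ t) χ) = weightStab φ χ := by
    intro χ hχ hne t
    by_contra hdiff
    set χt := FpfSymThree.pullback (θ t) χ
    have hnet : ∃ x, χt x ≠ 1 := by
      obtain ⟨x, hx⟩ := hne
      exact ⟨θ t x, by show χ ((θ t).symm (θ t x)) ≠ 1; rwa [MulEquiv.symm_apply_apply]⟩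
    have hSo : ∀ a, ∃ u, FpfSymThree.pullback (φ a) χ = FpfSymThree.pullback (θ u) χ := by
      let So : Subgroup A :=
        { carrier := {a | ∃ u, FpfSymThree.pullback (φ a) χ = FpfSymThree.pullback (θ u) χ}
          one_mem' := ⟨1, by simp⟩
          mul_mem' := fun {a b} ⟨u, hu⟩ ⟨w, hw⟩ => ⟨ψ a w * u, by
            rw [map_mul, FpfSymThree.pullback_mul, hw, ← FpfSymThree.pullback_mul, hc.compatS,
              FpfSymThree.pullback_mul, hu, ← FpfSymThree.pullback_mul, ← map_mul]⟩
          inv_mem' := fun {a} ⟨u, hu⟩ => ⟨(ψ a⁻¹ u)⁻¹, by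
            have h := congrArg (FpfSymThree.pullback (φ a⁻¹)) hu
            rw [← FpfSymThree.pullback_mul, ← map_mul, inv_mul_cancel, map_one,
              FpfSymThree.pullback_one, ← FpfSymThree.pullback_mul, hc.compatS,
              FpfSymThree.pullback_mul] at h
            conv_rhs => rw [h]
            rw [← FpfSymThree.pullback_mul, ← map_mul, inv_mul_cancel, map_one,
              FpfSymThree.pullback_one]⟩ }
      have htop : So = ⊤ := by
        refine eq_top_iff.mpr ((hc.grp.sup_eq_top (hstab0 χ hχ)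
          (hstab0 _ (hEt t χ hχ)) (Ne.symm hdiff)).ge.trans (sup_le ?_ ?_))
        · intro a ha
          exact ⟨1, by rw [map_one, mem_weightStab.mp ha, FpfSymThree.pullback_one]⟩
        · intro a ha
          refine ⟨(ψ a t)⁻¹ * t, ?_⟩
          have h := congrArg (FpfSymThree.pullback (θ (ψ a t)⁻¹)) (mem_weightStab.mp ha)
          rw [← FpfSymThree.pullback_mul (φ a), hc.compatS, FpfSymThree.pullback_mul,
            ← FpfSymThree.pullback_mul, ← map_mul, inv_mul_cancel, map_one,
            FpfSymThree.pullback_one, ← FpfSymThree.pullback_mul, ← map_mul] at h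
          exact h
      intro a
      exact (htop ▸ Subgroup.mem_top a : a ∈ So)
    let Xo := {χ' : R → k // ∃ u, χ' = FpfSymThree.pullback (θ u) χ}
    letI : MulAction S Xo :=
      { smul := fun u c => ⟨FpfSymThree.pullback (θ u) c.1, by
          obtain ⟨w, hw⟩ := c.2
          exact ⟨u * w, by rw [hw, map_mul, FpfSymThree.pullback_mul]⟩⟩
        one_smul := fun c => Subtype.ext (by
          show FpfSymThree.pullback (θ 1) c.1 = c.1
          rw [map_one, FpfSymThree.pullback_one])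
        mul_smul := fun u w c => Subtype.ext (by
          show FpfSymThree.pullback (θ (u * w)) c.1 =
            FpfSymThree.pullback (θ u) (FpfSymThree.pullback (θ w) c.1)
          rw [map_mul, FpfSymThree.pullback_mul]) }
    letI : MulAction A Xo :=
      { smul := fun a c => ⟨FpfSymThree.pullback (φ a) c.1, by
          obtain ⟨w, hw⟩ := c.2
          obtain ⟨u, hu⟩ := hSo a
          exact ⟨ψ a w * u, by
            rw [hw, ← FpfSymThree.pullback_mul, hc.compatS, FpfSymThree.pullback_mul, hu,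
              ← FpfSymThree.pullback_mul, ← map_mul]⟩⟩
        one_smul := fun c => Subtype.ext (by
          show FpfSymThree.pullback (φ 1) c.1 = c.1
          rw [map_one, FpfSymThree.pullback_one])
        mul_smul := fun u w c => Subtype.ext (by
          show FpfSymThree.pullback (φ (u * w)) c.1 =
            FpfSymThree.pullback (φ u) (FpfSymThree.pullback (φ w) c.1)
          rw [map_mul, FpfSymThree.pullback_mul]) }
    haveI : Nonempty Xo := ⟨⟨χ, 1, by rw [map_one, FpfSymThree.pullback_one]⟩⟩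
    have htrans : MulAction.IsPretransitive S Xo := ⟨by
      rintro ⟨_, z, rfl⟩ ⟨_, w, rfl⟩
      refine ⟨w * z⁻¹, Subtype.ext ?_⟩
      show FpfSymThree.pullback (θ (w * z⁻¹)) (FpfSymThree.pullback (θ z) χ) = _
      rw [← FpfSymThree.pullback_mul, ← map_mul, inv_mul_cancel_right]⟩
    obtain ⟨⟨χf, u, hu⟩, hfix⟩ := Coprime.exists_fixed_point ψ (X := Xo)
      (fun a z c => Subtype.ext (by
        show FpfSymThree.pullback (φ a) (FpfSymThree.pullback (θ z) c.1) =
          FpfSymThree.pullback (θ (ψ a z)) (FpfSymThree.pullback (φ a) c.1)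
        rw [← FpfSymThree.pullback_mul, ← FpfSymThree.pullback_mul, hc.compatS]))
      hc.copS (Or.inr inferInstance) htrans
    subst hu
    refine hstab1 _ (hEt u χ hχ) ?_ (eq_top_iff.mpr fun a _ => ?_)
    · obtain ⟨x, hx⟩ := hne
      exact ⟨θ u x, by show χ ((θ u).symm (θ u x)) ≠ 1; rwa [MulEquiv.symm_apply_apply]⟩
    · exact mem_weightStab.mpr (congrArg Subtype.val (hfix a))
  -- `[S, h]` fixes a weight with stabiliser generated by `h`
  have hS1 : ∀ χ, E χ ≠ ⊥ → (∃ x, χ x ≠ 1) → ∀ h, h ∈ weightStab φ χ → ∀ u ∈ commRange ψ h,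
      ∀ x, χ (θ u x) = χ x := by
    intro χ hχ hne h hh u hu
    obtain ⟨w, hw⟩ := hu
    have h1 : FpfSymThree.pullback (φ h) (FpfSymThree.pullback (θ w) χ) =
        FpfSymThree.pullback (θ w) χ := by
      rw [← mem_weightStab, horb χ hχ hne w]; exact hh
    rw [← FpfSymThree.pullback_mul, hc.compatS, FpfSymThree.pullback_mul, mem_weightStab.mp hh]
      at h1
    have h2 : FpfSymThree.pullback (θ u) χ = χ := by
      have hu' : u = w⁻¹ * ψ h w := by rw [← hw]; simp [div_eq_mul_inv, mul_comm]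
      rw [hu', map_mul, FpfSymThree.pullback_mul, h1, ← FpfSymThree.pullback_mul, ← map_mul,
        inv_mul_cancel, map_one, FpfSymThree.pullback_one]
    intro x
    have h3 := congrFun h2 (θ u x)
    rw [FpfSymThree.pullback, MulEquiv.symm_apply_apply] at h3
    exact h3.symm
  obtain ⟨g, ℓQ, -, -, -, hg⟩ := hc.grp.exists_generator hc.grp.ne_bot hc.grp.ne_top
  rcases hc.commRange_eq_bot_or_top hg with hQS | hQS
  · -- `Q` centralises `S`
    have hψ := hc.apply_eq_one_of_bot hQS
    have hallQ : ∀ χ, E χ ≠ ⊥ → (∃ x, χ x ≠ 1) → weightStab φ χ = Q := by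
      intro χ hχ hne
      by_contra hHQ
      obtain ⟨h, ℓ, hℓ, hord, hdvd, hzh⟩ :=
        hc.grp.exists_generator (hstab0 χ hχ) (hstab1 χ hχ hne)
      have htopA : Subgroup.zpowers g ⊔ Subgroup.zpowers h = ⊤ := by
        rw [hg, hzh]; exact hc.grp.sup_eq_top hc.grp.ne_bot (hstab0 χ hχ) (Ne.symm hHQ)
      have htop : commRange ψ h = ⊤ := by
        have := hc.sup_commRange_eq_top htopA
        rwa [hQS, bot_sup_eq] at this
      obtain ⟨x, hx⟩ := hne
      exact hx (hSinv χ hχ x fun t => hS1 χ hχ ⟨x, hx⟩ h (hzh ▸ Subgroup.mem_zpowers h) t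
        (htop ▸ Subgroup.mem_top t) x)
    have hφQ : ∀ a ∈ Q, ∀ x, φ a x = x := by
      intro a ha x
      refine hc.inj (LinearMap.ext fun v => ?_)
      have hle : ⨆ χ, E χ ≤ LinearMap.eqLocus (ρ (φ a x)) (ρ x) := by
        refine iSup_le fun χ w hw => ?_
        show ρ (φ a x) w = ρ x w
        by_cases hχ : E χ = ⊥
        · rw [hχ, Submodule.mem_bot] at hw
          rw [hw, map_zero, map_zero]
        · rw [hw (φ a x), hw x]
          by_cases hne : ∃ y, χ y ≠ 1
          · rw [apply_eq_of_mem_weightStab (hallQ χ hχ hne ▸ ha : a ∈ weightStab φ χ) x]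
          · push Not at hne
            rw [hne, hne]
      exact hle (hspan ▸ Submodule.mem_top)
    obtain ⟨t, ht⟩ := hc.nontriv
    exact ht (MulEquiv.ext fun x =>
      hc.apply_eq_self_of_fixedQ hg hψ inferInstance (fun a ha => hφQ a ha x) t)
  · -- `Q` is fixed-point-free on `S`
    obtain ⟨χ, hχ, hne⟩ : ∃ χ, E χ ≠ ⊥ ∧ ∃ x, χ x ≠ 1 := by
      by_contra hno
      push Not at hno
      obtain ⟨t, ht⟩ := hc.nontriv
      refine ht (MulEquiv.ext fun x => ?_)
      have hone : ∀ y : R, y = 1 := fun y => hc.inj (LinearMap.ext fun v => by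
        have hle : ⨆ χ, E χ ≤ LinearMap.eqLocus (ρ y) (ρ 1) := by
          refine iSup_le fun χ w hw => ?_
          show ρ y w = ρ 1 w
          by_cases hχ : E χ = ⊥
          · rw [hχ, Submodule.mem_bot] at hw
            rw [hw, map_zero, map_zero]
          · rw [hw y, hw 1, hno χ hχ, hno χ hχ]
        exact hle (hspan ▸ Submodule.mem_top))
      exact (hone _).trans (hone _).symm
    set H := weightStab φ χ with hHdef
    obtain ⟨h, ℓ, hℓ, hord, hdvd, hzh⟩ := hc.grp.exists_generator (hstab0 χ hχ) (hstab1 χ hχ hne)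
    have hhH : h ∈ H := hzh.le (Subgroup.mem_zpowers h)
    have hQne : H ≠ Q := by
      intro hHQ
      obtain ⟨x, hx⟩ := hne
      refine hx (hSinv χ hχ x fun t => hS1 χ hχ ⟨x, hx⟩ g ?_ t (hQS ▸ Subgroup.mem_top t) x)
      rw [← hHdef, hHQ, ← hg]
      exact Subgroup.mem_zpowers g
    -- weights with other stabilisers kill the fixed points of `[S, h]`
    have hother : ∀ χ', E χ' ≠ ⊥ → weightStab φ χ' ≠ H → ∀ l,
        (∀ u ∈ commRange ψ h, θ u l = l) → χ' l = 1 := by
      intro χ' hχ' hdiff l hl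
      by_contra hl1
      have hne' : ∃ x, χ' x ≠ 1 := ⟨l, hl1⟩
      obtain ⟨h', ℓ', -, -, -, hzh'⟩ :=
        hc.grp.exists_generator (hstab0 χ' hχ') (hstab1 χ' hχ' hne')
      have htop : commRange ψ h ⊔ commRange ψ h' = ⊤ := hc.sup_commRange_eq_top (by
        rw [hzh, hzh']; exact hc.grp.sup_eq_top (hstab0 χ hχ) (hstab0 χ' hχ') (Ne.symm hdiff))
      refine hl1 (hSinv χ' hχ' l fun t => ?_)
      obtain ⟨u, hu, u', hu', rfl⟩ :=
        Subgroup.mem_sup.mp (htop ▸ Subgroup.mem_top t : t ∈ commRange ψ h ⊔ commRange ψ h')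
      rw [mul_comm, map_mul, MulAut.mul_apply, hl u hu]
      exact hS1 χ' hχ' hne' h' (hzh' ▸ Subgroup.mem_zpowers h') u' hu' l
    obtain ⟨x, hx⟩ := hne
    set L := commRange ψ h
    set l := ∏ t : L, θ t x with hldef
    have hlfix : ∀ u ∈ L, θ u l = l := fun u hu => hprodfix L x u hu
    have hχl : χ l ≠ 1 := by
      intro h1
      refine hx (hpow χ hχ x (Nat.card L)
        (hc.copSR.coprime_dvd_left L.card_subgroup_dvd_card) ?_)
      rw [← h1, hldef, show χ (∏ t : L, θ t x) = ∏ t : L, χ (θ t x) from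
        map_prod (wh χ hχ) (fun t : L => θ t x) Finset.univ, Finset.prod_congr rfl fun (t : L) _ =>
        hS1 χ hχ ⟨x, hx⟩ h hhH t t.2 x, Finset.prod_const, Finset.card_univ,
        Nat.card_eq_fintype_card]
    have hhl : φ h l = l := by
      refine hc.inj (LinearMap.ext fun v => ?_)
      have hle : ⨆ χ', E χ' ≤ LinearMap.eqLocus (ρ (φ h l)) (ρ l) := by
        refine iSup_le fun χ' w hw => ?_
        show ρ (φ h l) w = ρ l w
        by_cases hχ' : E χ' = ⊥
        · rw [hχ', Submodule.mem_bot] at hw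
          rw [hw, map_zero, map_zero]
        · rw [hw (φ h l), hw l]
          by_cases hsame : weightStab φ χ' = H
          · rw [apply_eq_of_mem_weightStab (hsame ▸ hhH : h ∈ weightStab φ χ') l]
          · rw [hother χ' hχ' hsame l hlfix, hother χ' hχ' hsame (φ h l) fun u hu => ?_]
            obtain ⟨w', rfl⟩ := hu
            have e := MulEquiv.ext_iff.mp (hc.compatS h ((ψ h⁻¹ w')⁻¹ * ψ h (ψ h⁻¹ w'))) l
            rw [MulAut.mul_apply, MulAut.mul_apply, hlfix _ (mem_commRange ψ h _)] at e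
            conv_rhs => rw [e]
            simp [map_mul, map_inv, div_eq_mul_inv, mul_comm]
      exact hle (hspan ▸ Submodule.mem_top)
    haveI := Fintype.ofFinite Q
    have hw : ∏ b : Q, φ b l = 1 := by
      refine hc.fpfR _ fun a => ?_
      have hle : Q ⊔ H ≤ (MulAction.stabilizer (MulAut R) (∏ b : Q, φ b l)).comap φ := by
        refine sup_le (fun b hb => ?_) (hzh.ge.trans (Subgroup.zpowers_le.mpr ?_))
        · show φ b (∏ c : Q, φ c l) = _
          rw [map_prod]
          exact Fintype.prod_equiv (Equiv.mulLeft (⟨b, hb⟩ : Q)) _ _ fun c => by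
            rw [Equiv.coe_mulLeft, Subgroup.coe_mul, map_mul, MulAut.mul_apply]
        · show φ h (∏ c : Q, φ c l) = _
          rw [map_prod]
          haveI := hc.grp.normal
          refine Fintype.prod_equiv (MulAut.conjNormal h).toEquiv _ _ fun c => ?_
          show φ h (φ c l) = φ (MulAut.conjNormal h c : Q) l
          conv_rhs => rw [MulAut.conjNormal_apply, map_mul, map_mul, MulAut.mul_apply,
            MulAut.mul_apply, map_inv, show (φ h)⁻¹ l = l by
              conv_lhs => rw [← hhl]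
              exact MulAut.inv_apply_self ..]
      exact hle (hc.grp.sup_eq_top hc.grp.ne_bot (hstab0 χ hχ) (Ne.symm hQne) ▸
        Subgroup.mem_top a)
    have h1 : χ (∏ b : Q, φ b l) = ∏ b : Q, χ (φ b l) :=
      map_prod (wh χ hχ) (fun b : Q => φ b l) Finset.univ
    rw [hw, (weight_mul ρ hχ).1, Finset.prod_eq_single (1 : Q)] at h1
    · rw [Subgroup.coe_one, map_one, MulAut.one_apply] at h1
      exact hχl h1.symm
    · intro b _ hb
      set χb := FpfSymThree.pullback (φ (b : A)⁻¹) χ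
      have hχb : E χb ≠ ⊥ := by
        intro h0
        obtain ⟨v, hv, hv0⟩ := Submodule.exists_mem_ne_zero_of_ne_bot hχ
        have hm : σ (b : A)⁻¹ v ∈ E χb :=
          FpfSymThree.apply_mem_jointEigen (fun t => hc.compatW _ t) hv
        rw [h0, Submodule.mem_bot] at hm
        exact ne_zero_rep_apply σ _ hv0 hm
      have hval' : χ (φ b l) = χb l := by
        show χ (φ b l) = χ ((φ (b : A)⁻¹).symm l)
        congr 1
        apply (φ (b : A)⁻¹).injective
        rw [MulEquiv.apply_symm_apply, map_inv, MulAut.inv_apply_self]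
      rw [hval']
      refine hother χb hχb (fun hsame => hb (Subtype.ext ?_)) l hlfix
      have := hc.grp.eq_one_of_normalizes (hstab0 χ hχ)
        (hstab1 χ hχ ⟨x, hx⟩) hQne (Q.inv_mem b.2) fun a ha => by
          rw [← hHdef, ← hsame, mem_weightStab]
          show FpfSymThree.pullback (φ _) (FpfSymThree.pullback (φ (b : A)⁻¹) χ) =
            FpfSymThree.pullback (φ (b : A)⁻¹) χ
          rw [← FpfSymThree.pullback_mul, ← map_mul, inv_mul_cancel_right, map_mul,
            FpfSymThree.pullback_mul, mem_weightStab.mp ha]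
      rw [inv_eq_one] at this
      rw [this, Subgroup.coe_one]
    · exact fun hn => absurd (Finset.mem_univ _) hn

end Abelian

end IsConfig

end Cfsg.Agent.Lib.FpfPq
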