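import Cfsg.Agent.Lib.FpfPq.ClassTwo
import Cfsg.Agent.Lib.Coprime.Aut
import Cfsg.Agent.Lib.Core.Fitting

/-!
# Fixed-point-free actions of non-abelian groups of order `pq` on solvable groups

The Fitting height is at most two: the group induced on a minimal invariant normal subgroup is
nilpotent, since otherwise it contains a critical configuration.
-/

set_option autoImplicit false

namespace Cfsg.Agent.Lib.FpfPq

open Cfsg.Agent.Lib
open scoped commutatorElement Matrix

universe u

/-- An automorphism of coprime order stabilising a subgroup and its cosets is trivial. -/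
theorem map_eq_one_of_stabilizes {G V : Type*} [Group G] [Finite G] [Group V] [Finite V]
    (φ : G →* MulAut V) (hcop : (Nat.card G).Coprime (Nat.card V)) (N : Subgroup V) {g : G}
    (h1 : ∀ n ∈ N, φ g n = n) (h2 : ∀ x : V, x⁻¹ * φ g x ∈ N) : φ g = 1 := by
  refine MulEquiv.ext fun x => ?_
  set n := x⁻¹ * φ g x with hn
  have hgx : φ g x = x * n := by rw [hn, mul_inv_cancel_left]
  have hpow : ∀ k : ℕ, φ (g ^ k) x = x * n ^ k := by
    intro k
    induction k with
    | zero => rw [pow_zero, pow_zero, map_one, mul_one]; rfl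
    | succ k ih =>
      rw [pow_succ', map_mul, MulAut.mul_apply, ih, map_mul, hgx, h1 _ (N.pow_mem (h2 x) k),
        mul_assoc, ← pow_succ']
  have h0 := hpow (orderOf g)
  rw [pow_orderOf_eq_one, map_one] at h0
  have hn1 : n ^ orderOf g = 1 := mul_left_cancel (h0.symm.trans (mul_one x).symm)
  have : n = 1 := eq_one_of_pow_coprime
    ((hcop.coprime_dvd_left (orderOf_dvd_natCard g)).symm) hn1
  rw [hgx, this, mul_one]
  rfl

/-- A group acting faithfully on a module without fixed vectors of the group of order `pq` is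
nilpotent, if it has no invariant normal subgroup of characteristic order. -/
theorem isNilpotent_of_faithful {A : Type*} [Group A] [Finite A] [Fintype A] {Q : Subgroup A}
    (hA : IsPqGroup A Q) {K : Type u} [Group K] [Finite K] [Group.IsSolvable K]
    {k W : Type*} [Field k] [IsAlgClosed k] [AddCommGroup W] [Module k W] [FiniteDimensional k W]
    (φ : A →* MulAut K) (ρ : K →* Module.End k W) (σ : A →* Module.End k W)
    (hcompat : ∀ a x, σ a * ρ x = ρ (φ a x) * σ a) (hsum : ∀ v, ∑ a, σ a v = 0)
    (hinj : Function.Injective ρ) (hfpf : ∀ x, (∀ a, φ a x = x) → x = 1)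
    (hcop : (Nat.card A).Coprime (Nat.card K)) (hAk : (Nat.card A : k) ≠ 0)
    (hO : ∀ (P : Subgroup K) (r : ℕ), r.Prime → P.Normal → (∀ a, ∀ x ∈ P, φ a x ∈ P) →
      IsPGroup r P → (r : k) = 0 → P = ⊥) :
    Group.IsNilpotent K := by
  classical
  set F := Cfsg.fittingSubgroup K with hF
  haveI hFn : F.Normal := Fitting.fittingSubgroup_normal
  by_contra hnil
  have hFtop : F ≠ ⊤ := fun h => hnil (by
    have h1 := Fitting.isNilpotent_fittingSubgroup (G := K)
    rw [← hF, h] at h1
    exact Group.isNilpotent_top.mp h1)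
  have hFinv : ∀ a, ∀ x ∈ F, φ a x ∈ F := fun a x hx => by
    rw [hF, ← Fitting.map_fittingSubgroup_equiv (φ a)]
    exact Subgroup.mem_map_of_mem _ hx
  -- a layer over the Fitting subgroup
  haveI : Nontrivial (K ⧸ F) := QuotientGroup.nontrivial_iff.mpr hFtop
  obtain ⟨s, Nb, hs, hNb1, hNbn, -, hNbe, hNbinv⟩ :=
    Wielandt.exists_elementary_invariant (V := K ⧸ F)
      (Group.isSolvable_of_surjective (QuotientGroup.mk'_surjective F))
  haveI := Fact.mk hs
  set S₀ := Nb.comap (QuotientGroup.mk' F) with hS₀
  haveI hS₀n : S₀.Normal := hNbn.comap _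
  have hFS₀ : F ≤ S₀ := fun x hx => by
    rw [hS₀, Subgroup.mem_comap, QuotientGroup.mk'_apply, (QuotientGroup.eq_one_iff x).mpr hx]
    exact Nb.one_mem
  have hS₀inv : ∀ a, ∀ x ∈ S₀, φ a x ∈ S₀ := fun a x hx =>
    hNbinv (Wielandt.quotientAct φ F hFinv a) _ hx
  have hFrel : ∃ n, F.relIndex S₀ = s ^ n := by
    obtain ⟨n, hn⟩ := IsPGroup.iff_card.mp (show IsPGroup s Nb from fun x => ⟨1, by
      rw [pow_one]; exact hNbe x⟩)
    refine ⟨n, ?_⟩
    let f : S₀ →* Nb := ((QuotientGroup.mk' F).comp S₀.subtype).codRestrict Nb fun x => x.2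
    have hf : Function.Surjective f := fun q => by
      obtain ⟨x, hx⟩ := QuotientGroup.mk'_surjective F (q : K ⧸ F)
      exact ⟨⟨x, by rw [hS₀, Subgroup.mem_comap, hx]; exact q.2⟩, Subtype.ext hx⟩
    have hk : f.ker = F.subgroupOf S₀ := by
      ext x
      rw [MonoidHom.mem_ker, Subgroup.mem_subgroupOf]
      exact ⟨fun h => (QuotientGroup.eq_one_iff _).mp (congrArg Subtype.val h),
        fun h => Subtype.ext ((QuotientGroup.eq_one_iff _).mpr h)⟩
    rw [← hn, Subgroup.relIndex, ← hk, Subgroup.index_ker,
      MonoidHom.range_eq_top.mpr hf, Subgroup.card_top]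
  have hcopS₀ : (Nat.card A).Coprime (Nat.card S₀) :=
    hcop.coprime_dvd_right S₀.card_subgroup_dvd_card
  letI : MulDistribMulAction A S₀ :=
    MulDistribMulAction.compHom S₀ (Wielandt.restrictAct φ S₀ hS₀inv)
  obtain ⟨P, hP⟩ := Coprime.exists_smul_invariant_sylow hcopS₀ (Or.inr inferInstance) s
  set St := (P : Subgroup S₀).map S₀.subtype with hSt
  have hStinv : ∀ a, ∀ x ∈ St, φ a x ∈ St := by
    rintro a _ ⟨x, hx, rfl⟩
    exact ⟨_, hP a x hx, rfl⟩
  have hStP : IsPGroup s St := P.2.map _
  -- some other core is moved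
  obtain ⟨r, hr, hrs, hmoved⟩ : ∃ r : ℕ, r.Prime ∧ r ≠ s ∧
      ∃ l ∈ St, ∃ x ∈ Cfsg.pCore r K, l * x * l⁻¹ ≠ x := by
    by_contra hnone
    push Not at hnone
    have hPn : (P : Subgroup S₀).Normal := by
      rw [← Subgroup.normalizer_eq_top_iff, eq_top_iff]
      have hsup : (P : Subgroup S₀) ⊔ F.subgroupOf S₀ = ⊤ := by
        rw [← Subgroup.index_eq_one]
        refine Nat.eq_one_of_dvd_coprimes ?_ (Subgroup.index_dvd_of_le le_sup_left)
          (Subgroup.index_dvd_of_le le_sup_right)
        obtain ⟨n, hn⟩ := hFrel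
        rw [show (F.subgroupOf S₀).index = s ^ n from hn]
        exact (Nat.Coprime.pow_right _ ((Nat.Prime.coprime_iff_not_dvd hs).mpr P.not_dvd_index).symm)
      have hFle : F.subgroupOf S₀ ≤ Subgroup.normalizer ((P : Subgroup S₀) : Set S₀) := by
        intro x hx
        have hx' : (x : K) ∈ ⨆ q : Nat.Primes, Cfsg.pCore (q : ℕ) K := by
          rw [← Fitting.fittingSubgroup_eq_iSup_pCore]; exact hx
        have hle : (⨆ q : Nat.Primes, Cfsg.pCore (q : ℕ) K) ≤
            Subgroup.normalizer (St : Set K) := by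
          refine iSup_le fun q => ?_
          haveI := Fact.mk q.2
          by_cases hq : (q : ℕ) = s
          · intro y hy
            refine Subgroup.le_normalizer ?_
            have hyF : y ∈ S₀ := hFS₀ (Fitting.pCore_le_fittingSubgroup (q : ℕ) hy)
            refine ⟨⟨y, hyF⟩, ?_, rfl⟩
            haveI : ((Cfsg.pCore (q : ℕ) K).subgroupOf S₀).Normal := inferInstance
            have hp : IsPGroup s ((Cfsg.pCore (q : ℕ) K).subgroupOf S₀) :=
              hq ▸ (PSolvable.pCore_isPGroup (p := (q : ℕ)) (G := K)).comap_subtype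
            exact IsPGroup.le_sylow_of_normal hp P hy
          · intro y hy
            rw [Subgroup.mem_normalizer_iff]
            intro l
            have hcm : ∀ l ∈ St, y * l * y⁻¹ = l := fun l hl => by
              have h1 := hnone (q : ℕ) q.2 hq l hl y hy
              calc y * l * y⁻¹ = l * (l⁻¹ * (y * l) * y⁻¹) := by group
                _ = l * (l⁻¹ * ((l * y * l⁻¹) * l) * y⁻¹) := by rw [h1]
                _ = l := by group
            constructor
            · intro hl; show y * l * y⁻¹ ∈ St; rw [hcm l hl]; exact hl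
            · intro hl
              have h2 := hcm _ hl
              have h3 : l = y⁻¹ * (y * l * y⁻¹) * y := by group
              rw [h3]
              have h4 : y⁻¹ * (y * l * y⁻¹) * y = y * l * y⁻¹ := by
                conv_lhs => rw [← h2]
                group
              rw [h4]; exact hl
        have h1 := hle hx'
        rw [Subgroup.mem_normalizer_iff] at h1 ⊢
        intro y
        constructor
        · intro hy
          obtain ⟨z, hz, hz'⟩ := (h1 (y : K)).mp ⟨y, hy, rfl⟩
          have : z = x * y * x⁻¹ := Subtype.ext hz'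
          exact this ▸ hz
        · intro hy
          obtain ⟨z, hz, hz'⟩ := (h1 (y : K)).mpr ⟨x * y * x⁻¹, hy, rfl⟩
          have : z = y := Subtype.ext hz'
          exact this ▸ hz
      exact hsup.ge.trans (sup_le Subgroup.le_normalizer hFle)
    -- `S₀` would be nilpotent
    have hS₀nil : Group.IsNilpotent S₀ := by
      refine ((Group.isNilpotent_of_finite_tfae (G := S₀)).out 0 3).mpr ?_
      intro q hq Pq
      haveI := hq
      by_cases hqs : q = s
      · subst hqs
        haveI := P.unique_of_normal hPn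
        rw [Subsingleton.elim Pq P]
        exact hPn
      · have hnd : ¬ q ∣ ((Cfsg.pCore q K).subgroupOf S₀).index := by
          intro hd
          have h1 : ((Cfsg.pCore q K).subgroupOf S₀).index =
              (Cfsg.pCore q K).relIndex F * F.relIndex S₀ :=
            (Subgroup.relIndex_mul_relIndex _ _ _ (Fitting.pCore_le_fittingSubgroup q) hFS₀).symm
          rw [h1] at hd
          rcases hq.out.dvd_mul.mp hd with h | h
          · exact Fitting.not_dvd_relIndex_pCore_fitting q h
          · obtain ⟨n, hn⟩ := hFrel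
            rw [hn] at h
            exact hqs ((Nat.prime_dvd_prime_iff_eq hq.out hs).mp (hq.out.dvd_of_dvd_pow h))
        let T : Sylow q S₀ := (PSolvable.pCore_isPGroup (p := q) (G := K)).comap_subtype.toSylow hnd
        haveI hTn : (T : Subgroup S₀).Normal := by
          show ((Cfsg.pCore q K).subgroupOf S₀).Normal
          infer_instance
        haveI := T.unique_of_normal hTn
        rw [Subsingleton.elim Pq T]
        exact hTn
    have hle : S₀ ≤ F := Fitting.le_fittingSubgroup hS₀nil
    refine hNb1 (eq_bot_iff.mpr fun q hq => ?_)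
    obtain ⟨x, rfl⟩ := QuotientGroup.mk'_surjective F q
    exact Subgroup.mem_bot.mpr ((QuotientGroup.eq_one_iff x).mpr (hle hq))
  haveI := Fact.mk hr
  set R₀ := Cfsg.pCore r K with hR₀
  have hR₀inv : ∀ a, ∀ x ∈ R₀, φ a x ∈ R₀ := fun a x hx => by
    haveI : ((R₀.map (φ a).toMonoidHom)).Normal :=
      Subgroup.Normal.map inferInstance _ (φ a).surjective
    exact PSolvable.le_pCore ((PSolvable.pCore_isPGroup (p := r) (G := K)).map _)
      (Subgroup.mem_map_of_mem (φ a).toMonoidHom hx)
  -- minimal acting group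
  obtain ⟨L, ⟨hLSt, hLinv, hLmov⟩, hLmin⟩ := exists_minimal_of_wellFoundedLT
    (fun L : Subgroup K => L ≤ St ∧ (∀ a, ∀ x ∈ L, φ a x ∈ L) ∧
      ∃ l ∈ L, ∃ x ∈ R₀, l * x * l⁻¹ ≠ x) ⟨St, le_rfl, hStinv, hmoved⟩
  -- minimal group acted on
  obtain ⟨R, ⟨hRle, hRinv, hRL, hRmov⟩, hRmin⟩ := exists_minimal_of_wellFoundedLT
    (fun R : Subgroup K => R ≤ R₀ ∧ (∀ a, ∀ x ∈ R, φ a x ∈ R) ∧
      (∀ l ∈ L, ∀ x ∈ R, l * x * l⁻¹ ∈ R) ∧ ∃ l ∈ L, ∃ x ∈ R, l * x * l⁻¹ ≠ x)
    ⟨R₀, le_rfl, hR₀inv, fun l _ x hx => (inferInstance : R₀.Normal).conj_mem x hx l, hLmov⟩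
  have hRP : IsPGroup r R := (PSolvable.pCore_isPGroup (p := r) (G := K)).to_le hRle
  let φR : A →* MulAut R := Wielandt.restrictAct φ R hRinv
  let θ₀ : L →* MulAut R :=
    Wielandt.restrictAct (MulAut.conj.comp L.subtype) R fun l x hx => hRL l l.2 x hx
  let φL : A →* MulAut L := Wielandt.restrictAct φ L hLinv
  have hθ₀ : ∀ (l : L) (x : R), ((θ₀ l x : R) : K) = (l : K) * x * (l : K)⁻¹ := fun _ _ => rfl
  have hLP : IsPGroup s L := hStP.to_le hLSt
  set C := θ₀.ker with hCdef
  have hCmem : ∀ l : L, l ∈ C ↔ ∀ x ∈ R, (l : K) * x * (l : K)⁻¹ = x := fun l => by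
    rw [hCdef, MonoidHom.mem_ker]
    constructor
    · intro h x hx
      exact congrArg Subtype.val (MulEquiv.ext_iff.mp h ⟨x, hx⟩)
    · intro h
      exact MulEquiv.ext fun x => Subtype.ext (h x x.2)
  have hCinv : ∀ a, ∀ l ∈ C, φL a l ∈ C := by
    intro a l hl
    rw [hCmem] at hl ⊢
    intro x hx
    have h := congrArg (φ a) (hl (φ a⁻¹ x) (hRinv a⁻¹ x hx))
    rw [map_mul, map_mul, map_inv (φ a), map_inv φ, MulAut.apply_inv_self] at h
    exact h
  have hproper : ∀ L' : Subgroup L, (∀ a, ∀ l ∈ L', φL a l ∈ L') → L' ≠ ⊤ → L' ≤ C := by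
    intro L' hinv hne l hl
    rw [hCmem]
    intro x hx
    by_contra hmov
    have h1 := hLmin (y := L'.map L.subtype) ⟨(Subgroup.map_subtype_le L').trans hLSt,
      (by rintro a _ ⟨m, hm, rfl⟩; exact ⟨_, hinv a m hm, rfl⟩),
      ⟨l, ⟨l, hl, rfl⟩, x, hRle hx, hmov⟩⟩ (Subgroup.map_subtype_le L')
    refine hne (eq_top_iff.mpr fun m _ => ?_)
    obtain ⟨m', hm', hm'eq⟩ := h1 m.2
    exact (Subtype.ext hm'eq : m' = m) ▸ hm'
  have hCne : C ≠ ⊤ := fun h => by
    obtain ⟨l, hl, x, hx, hlx⟩ := hRmov
    exact hlx ((hCmem ⟨l, hl⟩).mp (h ▸ Subgroup.mem_top _) x hx)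
  haveI : Nontrivial L := by
    by_contra hs'
    rw [not_nontrivial_iff_subsingleton] at hs'
    exact hCne (Subsingleton.elim _ _)
  haveI : Group.IsSolvable L := inferInstance
  have hLcomm : commutator L ≤ C := hproper _ (fun a l hl => by
    have h := (inferInstance : (commutator L).Characteristic).fixed (φL a)
    rw [← h] at hl
    exact Subgroup.mem_comap.mp hl) (Group.IsSolvable.commutator_lt_top_of_nontrivial L).ne
  letI : CommGroup (L ⧸ C) :=
    { (inferInstance : Group (L ⧸ C)) with
      mul_comm := fun p q => by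
        induction p using QuotientGroup.induction_on with
        | H u =>
          induction q using QuotientGroup.induction_on with
          | H v =>
            rw [← QuotientGroup.mk_mul, ← QuotientGroup.mk_mul, QuotientGroup.eq]
            have h := hLcomm (Subgroup.commutator_mem_commutator (Subgroup.mem_top v⁻¹)
              (Subgroup.mem_top u⁻¹))
            rw [commutatorElement_def, inv_inv, inv_inv] at h
            convert h using 1
            group }
  let θ : L ⧸ C →* MulAut R := QuotientGroup.kerLift θ₀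
  have hθmk : ∀ l : L, θ (l : L ⧸ C) = θ₀ l := fun _ => rfl
  let ψ : A →* MulAut (L ⧸ C) := Wielandt.quotientAct φL C hCinv
  have hcopL : (Nat.card A).Coprime (Nat.card L) :=
    hcop.coprime_dvd_right L.card_subgroup_dvd_card
  have hcopR : (Nat.card A).Coprime (Nat.card R) :=
    hcop.coprime_dvd_right R.card_subgroup_dvd_card
  have hcopSR : (Nat.card (L ⧸ C)).Coprime (Nat.card R) := by
    obtain ⟨m, hm⟩ := IsPGroup.iff_card.mp (hLP.to_quotient C)
    obtain ⟨n, hn⟩ := IsPGroup.iff_card.mp hRP
    rw [hm, hn]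
    exact Nat.Coprime.pow _ _ ((Nat.coprime_primes hs hr).mpr (Ne.symm hrs))
  have hfpfS : ∀ t, (∀ a, ψ a t = t) → t = 1 := by
    intro t ht
    induction t using QuotientGroup.induction_on with
    | H l =>
      obtain ⟨v, hv, hvl⟩ := FpfSymThree.exists_fixed_of_mod φL hcopL C hCinv ⊤ (x := l)
        fun a _ => QuotientGroup.eq.mp (ht a).symm
      have hv1 : v = 1 := Subtype.ext (hfpf v fun a =>
        congrArg Subtype.val (hv a (Subgroup.mem_top a)))
      rw [hv1, inv_one, one_mul] at hvl
      exact (QuotientGroup.eq_one_iff l).mpr hvl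
  have hrk : (r : k) ≠ 0 := by
    intro h0
    have hbot := hO R₀ r hr inferInstance hR₀inv PSolvable.pCore_isPGroup h0
    obtain ⟨l, -, x, hx, hlx⟩ := hLmov
    rw [hbot, Subgroup.mem_bot] at hx
    exact hlx (by rw [hx]; group)
  have hirr : ∀ M : Subgroup (L ⧸ C), (∀ a, ∀ y ∈ M, ψ a y ∈ M) → M = ⊥ ∨ M = ⊤ := by
    intro M hM
    by_cases h : M.comap (QuotientGroup.mk' C) = ⊤
    · refine Or.inr (eq_top_iff.mpr fun q _ => ?_)
      obtain ⟨l, rfl⟩ := QuotientGroup.mk'_surjective C q
      exact Subgroup.mem_comap.mp (h ▸ Subgroup.mem_top l : l ∈ M.comap (QuotientGroup.mk' C))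
    · refine Or.inl (eq_bot_iff.mpr fun q hq => ?_)
      obtain ⟨l, rfl⟩ := QuotientGroup.mk'_surjective C q
      exact Subgroup.mem_bot.mpr ((QuotientGroup.eq_one_iff l).mpr
        (hproper _ (fun a m hm => hM a _ hm) h hq))
  have hc : IsConfig Q φR ψ θ (ρ.comp R.subtype) σ :=
    { grp := hA
      compatS := fun a t => by
        induction t using QuotientGroup.induction_on with
        | H l =>
          refine MulEquiv.ext fun x => Subtype.ext ?_
          show φ a ((l : K) * x * (l : K)⁻¹) = φ a (l : K) * φ a x * (φ a (l : K))⁻¹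
          rw [map_mul, map_mul, map_inv]
      compatW := fun a x => hcompat a x
      sum_eq := hsum
      inj := hinj.comp Subtype.val_injective
      fpfR := fun x hx => Subtype.ext (hfpf x fun a => congrArg Subtype.val (hx a))
      fpfS := hfpfS
      copR := hcopR
      copS := hcopL.coprime_dvd_right C.card_quotient_dvd_card
      copSR := hcopSR
      irrS := hirr
      nontriv := by
        obtain ⟨l, hl, x, hx, hlx⟩ := hRmov
        exact ⟨((⟨l, hl⟩ : L) : L ⧸ C), fun h =>
          hlx (congrArg Subtype.val (MulEquiv.ext_iff.mp h ⟨x, hx⟩))⟩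
      cardR_ne := by
        obtain ⟨n, hn⟩ := IsPGroup.iff_card.mp hRP
        rw [hn, Nat.cast_pow]
        exact pow_ne_zero _ hrk
      cardA_ne := hAk }
  -- proper invariant subgroups are centralised
  have hcent : ∀ R' : Subgroup R, (∀ a, ∀ x ∈ R', φR a x ∈ R') → (∀ l, ∀ x ∈ R', θ₀ l x ∈ R') →
      R' ≠ ⊤ → ∀ t, ∀ x ∈ R', θ t x = x := by
    intro R' hφ' hθ' hne t x hx
    induction t using QuotientGroup.induction_on with
    | H l =>
      by_contra hmov
      have h1 := hRmin (y := R'.map R.subtype) ⟨(Subgroup.map_subtype_le R').trans hRle,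
        (by rintro a _ ⟨m, hm, rfl⟩; exact ⟨_, hφ' a m hm, rfl⟩),
        (by rintro l' hl' _ ⟨m, hm, rfl⟩; exact ⟨_, hθ' ⟨l', hl'⟩ m hm, rfl⟩),
        ⟨l, l.2, x, ⟨x, hx, rfl⟩, fun he => hmov (Subtype.ext he)⟩⟩ (Subgroup.map_subtype_le R')
      refine hne (eq_top_iff.mpr fun m _ => ?_)
      obtain ⟨m', hm', hm'eq⟩ := h1 m.2
      exact (Subtype.ext hm'eq : m' = m) ▸ hm'
  -- the commutator of `R` with the acting group is everything
  set D : Subgroup R :=
    Subgroup.closure {d | ∃ (t : L ⧸ C) (x : R), d = x⁻¹ * θ t x} with hD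
  have hDgen : ∀ t x, x⁻¹ * θ t x ∈ D := fun t x => Subgroup.subset_closure ⟨t, x, rfl⟩
  have hDtop : D = ⊤ := by
    by_contra hne
    have hθD : ∀ t, ∀ x ∈ D, θ t x ∈ D := by
      intro t x hx
      rw [show θ t x = x * (x⁻¹ * θ t x) by group]
      exact D.mul_mem hx (hDgen t x)
    have hφD : ∀ a, ∀ x ∈ D, φR a x ∈ D := by
      intro a x hx
      refine (Subgroup.closure_le (K := D.comap (φR a).toMonoidHom)).mpr ?_ hx
      rintro _ ⟨t, z, rfl⟩
      show φR a (z⁻¹ * θ t z) ∈ D
      rw [map_mul, map_inv, show φR a (θ t z) = (φR a * θ t) z from rfl, hc.compatS, MulAut.mul_apply]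
      exact hDgen _ _
    have hfixD := hcent D hφD (fun l => hθD (l : L ⧸ C)) hne
    obtain ⟨t, ht⟩ := hc.nontriv
    exact ht (map_eq_one_of_stabilizes θ hcopSR D (hfixD t) (hDgen t))
  haveI := hRP.isNilpotent
  have hRnt : Nontrivial R := by
    obtain ⟨l, hl, x, hx, hlx⟩ := hRmov
    exact ⟨⟨⟨x, hx⟩, 1, fun h => hlx (by rw [show x = 1 from congrArg Subtype.val h]; group)⟩⟩
  haveI : Fintype (L ⧸ C) := Fintype.ofFinite _
  by_cases hab : ∀ x y : R, x * y = y * x
  · refine hc.false_of_abelian hab (fun x hx => ?_) fun t => ?_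
    · letI : CommGroup R := { (inferInstance : Group R) with mul_comm := hab }
      let e : R →* R :=
        { toFun := fun y => ∏ t : L ⧸ C, θ t y
          map_one' := by simp
          map_mul' := fun y z => by simp [map_mul, Finset.prod_mul_distrib] }
      have hker : D ≤ e.ker := by
        refine (Subgroup.closure_le _).mpr ?_
        rintro _ ⟨u, y, rfl⟩
        refine MonoidHom.mem_ker.mpr ?_
        rw [map_mul, map_inv, inv_mul_eq_one]
        show ∏ t : L ⧸ C, θ t y = ∏ t : L ⧸ C, θ t (θ u y)
        exact (Fintype.prod_equiv (Equiv.mulRight u) _ _ fun t => by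
          rw [Equiv.coe_mulRight, map_mul, MulAut.mul_apply]).symm
      have h1 : e x = 1 := MonoidHom.mem_ker.mp (hker (hDtop ▸ Subgroup.mem_top x))
      have h2 : x ^ Nat.card (L ⧸ C) = 1 := by
        rw [← h1]
        show x ^ Nat.card (L ⧸ C) = ∏ t : L ⧸ C, θ t x
        rw [Finset.prod_congr rfl fun t _ => hx t, Finset.prod_const, Finset.card_univ,
          Nat.card_eq_fintype_card]
      exact eq_one_of_pow_coprime hcopSR.symm h2
    · induction t using QuotientGroup.induction_on with
      | H l =>
        refine ⟨ρ (l : K), fun v w hvw => ?_, fun x => ?_⟩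
        · have h := congrArg (ρ (l : K)⁻¹) hvw
          simpa only [← Module.End.mul_apply, ← map_mul, inv_mul_cancel, map_one,
            Module.End.one_apply] using h
        · show ρ (l : K) * ρ (x : K) = ρ ((l : K) * x * (l : K)⁻¹) * ρ (l : K)
          rw [← map_mul, ← map_mul, inv_mul_cancel_right]
  · -- class two
    have hcom : ∀ t, ∀ z ∈ commutator R, θ t z = z := by
      refine hcent _ (fun a z hz => ?_) (fun l z hz => ?_)
        (Group.IsSolvable.commutator_lt_top_of_nontrivial R).ne
      · have h := (inferInstance : (commutator R).Characteristic).fixed (φR a)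
        rw [← h] at hz; exact Subgroup.mem_comap.mp hz
      · have h := (inferInstance : (commutator R).Characteristic).fixed (θ₀ l)
        rw [← h] at hz; exact Subgroup.mem_comap.mp hz
    have hcl : ∀ x y : R, ⁅x, y⁆ ∈ Subgroup.center R := by
      intro x y
      have hz : ⁅x, y⁆ ∈ commutator R :=
        Subgroup.commutator_mem_commutator (Subgroup.mem_top x) (Subgroup.mem_top y)
      rw [Subgroup.mem_center_iff]
      intro g
      have hle : D ≤ Subgroup.centralizer {⁅x, y⁆} := by
        refine (Subgroup.closure_le _).mpr ?_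
        rintro _ ⟨t, w, rfl⟩
        refine Subgroup.mem_centralizer_singleton_iff.mpr ?_
        have h1 := hcom t _ ((inferInstance : (commutator R).Normal).conj_mem _ hz w)
        rw [map_mul, map_mul, map_inv, hcom t _ hz] at h1
        calc w⁻¹ * θ t w * ⁅x, y⁆ = w⁻¹ * (θ t w * ⁅x, y⁆ * (θ t w)⁻¹) * θ t w := by group
          _ = ⁅x, y⁆ * (w⁻¹ * θ t w) := by rw [h1]; group
      exact Subgroup.mem_centralizer_singleton_iff.mp (hle (hDtop ▸ Subgroup.mem_top g))
    have hfixZ : ∀ t, ∀ z ∈ Subgroup.center R, θ t z = z := by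
      refine hcent _ (fun a z hz => ?_) (fun l z hz => ?_) fun htop => hab fun x y =>
        (Subgroup.mem_center_iff.mp (htop ▸ Subgroup.mem_top y) x)
      · have h := (inferInstance : (Subgroup.center R).Characteristic).fixed (φR a)
        rw [← h] at hz; exact Subgroup.mem_comap.mp hz
      · have h := (inferInstance : (Subgroup.center R).Characteristic).fixed (θ₀ l)
        rw [← h] at hz; exact Subgroup.mem_comap.mp hz
    refine hab (hc.comm_of_class_two hr hRP hcl hfixZ fun x hx => ?_)
    rw [Subgroup.mem_center_iff]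
    intro g
    have hle : D ≤ Subgroup.centralizer {x} := by
      refine (Subgroup.closure_le _).mpr ?_
      rintro _ ⟨t, w, rfl⟩
      refine Subgroup.mem_centralizer_singleton_iff.mpr ?_
      have h1 : θ t ⁅x, w⁆ = ⁅x, θ t w⁆ := by rw [map_commutatorElement, hx t]
      rw [hfixZ t _ (hcl x w)] at h1
      have h2 : w * x⁻¹ * w⁻¹ = θ t w * x⁻¹ * (θ t w)⁻¹ := by
        simp only [commutatorElement_def, mul_assoc, mul_right_inj] at h1
        simpa only [mul_assoc] using h1
      calc w⁻¹ * θ t w * x = w⁻¹ * (θ t w * x⁻¹ * (θ t w)⁻¹)⁻¹ * θ t w := by group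
        _ = x * (w⁻¹ * θ t w) := by rw [← h2]; group
    exact Subgroup.mem_centralizer_singleton_iff.mp (hle (hDtop ▸ Subgroup.mem_top g))

/-- **The theorem**: the Fitting height is at most two. -/
theorem exists_fitting_height_two {A : Type*} [Group A] [Finite A] [Fintype A] {Q : Subgroup A}
    (hA : IsPqGroup A Q) {G : Type u} [Group G] [Finite G] [Group.IsSolvable G]
    (φ : A →* MulAut G) (hcop : (Nat.card A).Coprime (Nat.card G))
    (hfpf : ∀ x, (∀ a, φ a x = x) → x = 1) :
    ∃ F : Subgroup G, ∃ _ : F.Normal, Group.IsNilpotent F ∧ Group.IsNilpotent (G ⧸ F) := by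
  classical
  induction hn : Nat.card G using Nat.strong_induction_on generalizing G with
  | _ m ih =>
    rcases subsingleton_or_nontrivial G with hG | hG
    · exact ⟨⊤, inferInstance, inferInstance, inferInstance⟩
    obtain ⟨r, N₀, hr, hN₀1, hN₀n, hN₀c, hN₀e, hN₀inv⟩ :=
      Wielandt.exists_elementary_invariant (V := G) inferInstance
    obtain ⟨N, ⟨hN1, hNn, hN, hNle⟩, hmin⟩ := exists_minimal_of_wellFoundedLT
      (fun N : Subgroup G => N ≠ ⊥ ∧ N.Normal ∧ (∀ a, ∀ n ∈ N, φ a n ∈ N) ∧ N ≤ N₀)
      ⟨N₀, hN₀1, hN₀n, fun a => hN₀inv (φ a), le_rfl⟩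
    haveI := hNn
    haveI := Fact.mk hr
    have hNc : ∀ x y : N, x * y = y * x := fun x y =>
      Subtype.ext (congrArg Subtype.val (hN₀c ⟨x, hNle x.2⟩ ⟨y, hNle y.2⟩) :)
    have hNe : ∀ x : N, x ^ r = 1 := fun x => Subtype.ext (by
      have h := congrArg Subtype.val (hN₀e ⟨x, hNle x.2⟩)
      simpa using h)
    haveI : Nontrivial N := (Subgroup.nontrivial_iff_ne_bot N).mpr hN1
    set C := Subgroup.centralizer (N : Set G) with hC
    haveI hCn : C.Normal := by rw [hC]; infer_instance
    have hCinv : ∀ a, ∀ c ∈ C, φ a c ∈ C := by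
      intro a c hc
      rw [hC, Subgroup.mem_centralizer_iff] at hc ⊢
      intro u hu
      have h := congrArg (φ a) (hc _ (hN a⁻¹ u hu))
      rw [map_mul, map_mul, map_inv, MulAut.apply_inv_self] at h
      exact h
    -- the representation of `G / C`
    letI : CommGroup N := { N.toGroup with mul_comm := hNc }
    letI : Module (ZMod r) (Additive N) :=
      AddCommGroup.zmodModule (n := r) fun x => congrArg Additive.ofMul (hNe x.toMul)
    haveI : Module.Finite (ZMod r) (Additive N) := Module.Finite.of_finite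
    set d := Module.finrank (ZMod r) (Additive N)
    let b : Module.Basis (Fin d) (ZMod r) (Additive N) := Module.finBasis (ZMod r) (Additive N)
    let k := AlgebraicClosure (ZMod r)
    let lin : MulAut N →* Module.End (ZMod r) (Additive N) :=
      { toFun := fun α => AddMonoidHom.toZModLinearMap r (MonoidHom.toAdditive α.toMonoidHom)
        map_one' := rfl
        map_mul' := fun _ _ => rfl }
    have hlin : Function.Injective lin := fun α β h =>
      MulEquiv.ext fun x => congrArg Additive.toMul (LinearMap.congr_fun h (Additive.ofMul x))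
    let Φ : Module.End (ZMod r) (Additive N) →+* Module.End k (Fin d → k) :=
      ((Matrix.toLinAlgEquiv' (R := k) (n := Fin d)).toRingEquiv.toRingHom.comp
        (algebraMap (ZMod r) k).mapMatrix).comp
        (LinearMap.toMatrixAlgEquiv b).toRingEquiv.toRingHom
    have hΦ : Function.Injective Φ := fun f g h => by
      have h1 : (LinearMap.toMatrixAlgEquiv b f).map (algebraMap (ZMod r) k) =
          (LinearMap.toMatrixAlgEquiv b g).map (algebraMap (ZMod r) k) :=
        (Matrix.toLinAlgEquiv' (R := k) (n := Fin d)).injective h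
      exact (LinearMap.toMatrixAlgEquiv b).injective
        (Matrix.map_injective (algebraMap (ZMod r) k).injective h1)
    let ρ₀ : G →* Module.End k (Fin d → k) :=
      (Φ.toMonoidHom.comp lin).comp MulAut.conjNormal
    have hker : ∀ g, ρ₀ g = 1 ↔ g ∈ C := by
      intro g
      rw [hC, Subgroup.mem_centralizer_iff]
      constructor
      · intro h u hu
        have h1 : MulAut.conjNormal g = (1 : MulAut N) := hlin (hΦ (by
          rw [map_one, map_one]; exact h))
        have h2 := congrArg Subtype.val (MulEquiv.ext_iff.mp h1 ⟨u, hu⟩)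
        exact (mul_inv_eq_iff_eq_mul.mp h2).symm
      · intro h
        have h1 : MulAut.conjNormal g = (1 : MulAut N) := MulEquiv.ext fun u => Subtype.ext (by
          show g * u * g⁻¹ = u
          rw [← h u u.2, mul_inv_cancel_right])
        show Φ (lin (MulAut.conjNormal g)) = 1
        rw [h1, map_one, map_one]
    let ρ : G ⧸ C →* Module.End k (Fin d → k) :=
      QuotientGroup.lift C ρ₀ fun g hg => (hker g).mpr hg
    let M : A →* Module.End (ZMod r) (Additive N) := lin.comp (Wielandt.restrictAct φ N hN)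
    have hcomp : ∀ a x, M a * lin (MulAut.conjNormal x) = lin (MulAut.conjNormal (φ a x)) * M a :=
      fun a x => LinearMap.ext fun n => congrArg Additive.ofMul (Subtype.ext (by
        show φ a (x * (n.toMul : G) * x⁻¹) = φ a x * φ a n.toMul * (φ a x)⁻¹
        rw [map_mul, map_mul, map_inv] : _))
    have hsum : ∑ a, M a = 0 := by
      refine LinearMap.ext fun n => ?_
      rw [LinearMap.coe_sum, Finset.sum_apply, LinearMap.zero_apply]
      set w := ∑ a, M a n
      have hfix : ∀ c, M c w = w := fun c => by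
        rw [map_sum]
        exact Fintype.sum_equiv (Equiv.mulLeft c) _ _ fun a => by
          rw [Equiv.coe_mulLeft, map_mul, Module.End.mul_apply]
      have h1 : (w.toMul : G) = 1 := hfpf _ fun c =>
        congrArg (fun z : Additive N => (z.toMul : G)) (hfix c)
      exact Additive.toMul.injective (Subtype.ext h1)
    haveI hcharK : CharP k r :=
      charP_of_injective_algebraMap (algebraMap (ZMod r) k).injective r
    have hrN : r ∣ Nat.card G := by
      obtain ⟨x, hx⟩ := exists_ne (1 : N)
      rw [← orderOf_eq_prime (hNe x) hx]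
      exact (orderOf_dvd_natCard x).trans N.card_subgroup_dvd_card
    have hfpfq : ∀ (M' : Subgroup G) [M'.Normal] (hM' : ∀ a, ∀ x ∈ M', φ a x ∈ M')
        (q : G ⧸ M'), (∀ a, Wielandt.quotientAct φ M' hM' a q = q) → q = 1 := by
      intro M' _ hM' q hq
      induction q using QuotientGroup.induction_on with
      | H x =>
        obtain ⟨v, hv, hvx⟩ := FpfSymThree.exists_fixed_of_mod φ hcop M' hM' ⊤ (x := x)
          fun a _ => QuotientGroup.eq.mp (hq a).symm
        rw [hfpf v fun a => hv a (Subgroup.mem_top a), inv_one, one_mul] at hvx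
        exact (QuotientGroup.eq_one_iff x).mpr hvx
    haveI : Group.IsSolvable (G ⧸ C) :=
      Group.isSolvable_of_surjective (QuotientGroup.mk'_surjective C)
    have hnilK : Group.IsNilpotent (G ⧸ C) := by
      refine isNilpotent_of_faithful hA (Wielandt.quotientAct φ C hCinv) ρ (Φ.toMonoidHom.comp M)
        (fun a q => ?_) (fun v => ?_) ?_ (hfpfq C hCinv)
        (hcop.coprime_dvd_right C.card_quotient_dvd_card) ?_ ?_
      · induction q using QuotientGroup.induction_on with
        | H x =>
          show Φ (M a) * Φ (lin (MulAut.conjNormal x)) =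
            Φ (lin (MulAut.conjNormal (φ a x))) * Φ (M a)
          rw [← map_mul, hcomp, map_mul]
      · show ∑ a, Φ (M a) v = 0
        rw [← Finset.sum_apply, ← LinearMap.coe_sum, ← map_sum, hsum, map_zero]
        rfl
      · rw [injective_iff_map_eq_one]
        intro q
        induction q using QuotientGroup.induction_on with
        | H x => exact fun h => (QuotientGroup.eq_one_iff x).mpr ((hker x).mp h)
      · intro h0
        exact hr.ne_one (Nat.eq_one_of_dvd_coprimes hcop ((CharP.cast_eq_zero_iff k r _).mp h0) hrN)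
      · intro P r' hr' hPn hPinv hPp hr'0
        obtain rfl : r = r' := (Nat.prime_dvd_prime_iff_eq hr hr').mp
          ((CharP.cast_eq_zero_iff k r r').mp hr'0)
        let act : G ⧸ C →* MulAut N :=
          QuotientGroup.lift C MulAut.conjNormal fun g hg => by
            rw [hC, Subgroup.mem_centralizer_iff] at hg
            exact MonoidHom.mem_ker.mpr (MulEquiv.ext fun u => Subtype.ext (by
              show g * u * g⁻¹ = u
              rw [← hg u u.2, mul_inv_cancel_right]))
        letI : MulAction P N :=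
          { smul := fun p n => act p n
            one_smul := fun n => by show act 1 n = n; rw [map_one]; rfl
            mul_smul := fun p p' n => by
              show act (p * p' : P) n = act p (act p' n)
              rw [Subgroup.coe_mul, map_mul]; rfl }
        set Pc := P.comap (QuotientGroup.mk' C) with hPc
        haveI : Pc.Normal := hPn.comap _
        let N₁ := N ⊓ Subgroup.centralizer (Pc : Set G)
        have hfix : ∀ n : N, n ∈ MulAction.fixedPoints P N ↔ (n : G) ∈ N₁ := by
          intro n
          constructor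
          · intro hn
            refine ⟨n.2, Subgroup.mem_centralizer_iff.mpr fun g hg => ?_⟩
            have h1 : g * n * g⁻¹ = (n : G) := congrArg Subtype.val (hn ⟨_, hg⟩)
            exact mul_inv_eq_iff_eq_mul.mp h1
          · rintro ⟨-, hn⟩ ⟨q, hq⟩
            obtain ⟨g, rfl⟩ := QuotientGroup.mk'_surjective C q
            refine Subtype.ext ?_
            show g * n * g⁻¹ = (n : G)
            rw [Subgroup.mem_centralizer_iff.mp hn g hq, mul_inv_cancel_right]
        have hN₁ : N₁ ≠ ⊥ := by
          intro hbot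
          have hmod := hPp.card_modEq_card_fixedPoints N
          have h1 : Nat.card (MulAction.fixedPoints P N) = 1 := by
            refine Nat.card_eq_one_iff_unique.mpr ⟨⟨fun x y => ?_⟩,
              ⟨⟨1, fun p => map_one _⟩⟩⟩
            have key : ∀ z : MulAction.fixedPoints P N, z.1 = 1 := fun z =>
              Subtype.ext (Subgroup.mem_bot.mp (hbot ▸ (hfix z.1).mp z.2))
            exact Subtype.ext ((key x).trans (key y).symm)
          obtain ⟨e, he⟩ := IsPGroup.iff_card.mp (show IsPGroup r N from fun x => ⟨1, by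
            rw [pow_one]; exact hNe x⟩)
          have he0 : e ≠ 0 := fun h => by
            have := Finite.one_lt_card (α := N)
            rw [he, h, pow_zero] at this
            exact lt_irrefl _ this
          rw [he, h1] at hmod
          have : r ∣ 1 := (Nat.ModEq.dvd_iff hmod (dvd_refl r)).mp (dvd_pow_self r he0)
          exact hr.ne_one (Nat.dvd_one.mp this)
        have hN₁inv : ∀ a, ∀ n ∈ N₁, φ a n ∈ N₁ := by
          intro a n hn
          refine ⟨hN a n hn.1, Subgroup.mem_centralizer_iff.mpr fun g hg => ?_⟩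
          have hg' : φ a⁻¹ g ∈ Pc := hPinv a⁻¹ _ hg
          have h := congrArg (φ a) (Subgroup.mem_centralizer_iff.mp hn.2 _ hg')
          rw [map_mul, map_mul, map_inv, MulAut.apply_inv_self] at h
          exact h
        have h1 := hmin (y := N₁) ⟨hN₁, inferInstance, hN₁inv, inf_le_left.trans hNle⟩ inf_le_left
        refine eq_bot_iff.mpr fun q hq => ?_
        obtain ⟨g, rfl⟩ := QuotientGroup.mk'_surjective C q
        refine Subgroup.mem_bot.mpr ((QuotientGroup.eq_one_iff g).mpr ?_)
        rw [hC, Subgroup.mem_centralizer_iff]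
        intro u hu
        exact (Subgroup.mem_centralizer_iff.mp (h1 hu).2 g hq).symm
    haveI := hnilK
    -- induction in `G / N`
    haveI : Group.IsSolvable (G ⧸ N) :=
      Group.isSolvable_of_surjective (QuotientGroup.mk'_surjective N)
    obtain ⟨Fb, hFbn, hFb1, hFb2⟩ := ih (Nat.card (G ⧸ N)) (by
      rw [← hn, Subgroup.card_eq_card_quotient_mul_card_subgroup N]
      exact lt_mul_of_one_lt_right Nat.card_pos Finite.one_lt_card)
      (Wielandt.quotientAct φ N hN) (hcop.coprime_dvd_right N.card_quotient_dvd_card)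
      (hfpfq N hN) rfl
    haveI := hFbn
    haveI := hFb1
    haveI := hFb2
    set F := Fb.comap (QuotientGroup.mk' N) ⊓ C with hFdef
    haveI hFn : F.Normal := inferInstance
    refine ⟨F, hFn, ?_, ?_⟩
    · let f : F →* Fb :=
        ((QuotientGroup.mk' N).comp F.subtype).codRestrict Fb fun x => x.2.1
      refine Subgroup.isNilpotent_of_ker_le_center f fun x hx => ?_
      have hxN : (x : G) ∈ N :=
        (QuotientGroup.eq_one_iff _).mp (congrArg Subtype.val (MonoidHom.mem_ker.mp hx))
      rw [Subgroup.mem_center_iff]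
      intro y
      exact Subtype.ext (Subgroup.mem_centralizer_iff.mp y.2.2 _ hxN).symm
    · let f : G →* ((G ⧸ N) ⧸ Fb) × (G ⧸ C) :=
        ((QuotientGroup.mk' Fb).comp (QuotientGroup.mk' N)).prod (QuotientGroup.mk' C)
      have hk : f.ker = F := by
        ext x
        rw [MonoidHom.mem_ker, hFdef]
        constructor
        · intro h
          exact ⟨(QuotientGroup.eq_one_iff (QuotientGroup.mk' N x)).mp (congrArg Prod.fst h),
            (QuotientGroup.eq_one_iff _).mp (congrArg Prod.snd h)⟩
        · rintro ⟨h1, h2⟩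
          exact Prod.ext ((QuotientGroup.eq_one_iff _).mpr h1) ((QuotientGroup.eq_one_iff _).mpr h2)
      exact Group.nilpotent_of_mulEquiv
        ((QuotientGroup.quotientKerEquivRange f).symm.trans (QuotientGroup.quotientMulEquivOfEq hk))

end Cfsg.Agent.Lib.FpfPq
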